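import Groth.Agent.H20GQ.Quot
import Mathlib.AlgebraicGeometry.AffineSpace
import Mathlib.AlgebraicGeometry.ResidueField
import Mathlib.CategoryTheory.Limits.Constructions.Over.Basic

/-!
Universal categorical quotients.
-/

set_option autoImplicit false
set_option backward.isDefEq.respectTransparency false

universe u

open CategoryTheory MonoidalCategory CartesianMonoidalCategory MonObj AlgebraicGeometry Topology

namespace Groth.Agent.H20GQ

variable {S : Scheme.{u}} {G X Y X' Y' : Over S} [GrpObj G] {a : AlgGrp.Action G X} {φ : X ⟶ Y}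

theorem act_cond (hi : GIT.IsInvariant a φ) {pr : X' ⟶ X} {φ' : X' ⟶ Y'} {g : Y' ⟶ Y} (hpb : IsPullback pr φ' φ g) :
    ((G ◁ pr) ≫ a.act) ≫ φ = (snd G X' ≫ φ') ≫ g := by
  rw [Category.assoc, hi, whiskerLeft_snd_assoc, hpb.w, Category.assoc]

/-- the induced action on a base change -/
theorem exists_action (hi : GIT.IsInvariant a φ) {pr : X' ⟶ X} {φ' : X' ⟶ Y'} {g : Y' ⟶ Y}
    (hpb : IsPullback pr φ' φ g) :
    ∃ a' : AlgGrp.Action G X', a'.act ≫ pr = (G ◁ pr) ≫ a.act ∧ GIT.IsInvariant a' φ' := by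
  let act := hpb.lift ((G ◁ pr) ≫ a.act) (snd G X' ≫ φ') (act_cond hi hpb)
  have h1 : act ≫ pr = (G ◁ pr) ≫ a.act := hpb.lift_fst _ _ _
  have h2 : act ≫ φ' = snd G X' ≫ φ' := hpb.lift_snd _ _ _
  refine ⟨⟨act, hpb.hom_ext ?_ ?_, hpb.hom_ext ?_ ?_⟩, h1, h2⟩
  · rw [Category.assoc, h1, ← whisker_exchange_assoc, a.one_act]
    simp
  · rw [Category.assoc, h2]
    simp [leftUnitor_hom]
  · simp only [Category.assoc, h1]
    rw [← whisker_exchange_assoc, a.mul_act, ← whiskerLeft_comp_assoc, h1]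
    simp
  · simp only [Category.assoc, h2]
    simp [h2]

theorem isPullback_of_left {P A B C : Over S} {f : P ⟶ A} {g : P ⟶ B} {h : A ⟶ C} {k : B ⟶ C}
    (hp : IsPullback f.left g.left h.left k.left) : IsPullback f g h k :=
  IsPullback.of_map (Over.forget S) (Over.OverMorphism.ext hp.w) hp

theorem sections_of_restrict (hi : GIT.IsInvariant a φ)
    (H : ∀ (U : Y.left.Opens) (X' Y' : Over S) (pr : X' ⟶ X) (φ' : X' ⟶ Y') (g : Y' ⟶ Y), IsPullback pr φ' φ g →
      IsOpenImmersion g.left → ∀ a' : AlgGrp.Action G X', a'.act ≫ pr = (G ◁ pr) ≫ a.act → GIT.IsInvariant a' φ' →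
      GIT.IsCatQuot a' φ') (U : Y.left.Opens) :
    Function.Injective (φ.left.app U) ∧ Set.range (φ.left.app U) = {f | GIT.IsInvSection a φ U f} := by
  let X' : Over S := Over.mk ((φ.left ⁻¹ᵁ U).ι ≫ X.hom)
  let Y' : Over S := Over.mk (U.ι ≫ Y.hom)
  let pr : X' ⟶ X := Over.homMk (φ.left ⁻¹ᵁ U).ι rfl
  let g : Y' ⟶ Y := Over.homMk U.ι rfl
  let φ' : X' ⟶ Y' := Over.homMk (φ.left ∣_ U) (by
    change (φ.left ∣_ U) ≫ U.ι ≫ Y.hom = (φ.left ⁻¹ᵁ U).ι ≫ X.hom
    rw [morphismRestrict_ι_assoc, Over.w φ])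
  have hpb : IsPullback pr φ' φ g := isPullback_of_left (isPullback_morphismRestrict φ.left U).flip
  obtain ⟨a', ha, hi'⟩ := exists_action hi hpb
  have hcat := H U X' Y' pr φ' g hpb (inferInstanceAs (IsOpenImmersion U.ι)) a' ha hi'
  let n : Type u := PUnit
  let Z : Over S := Over.mk (𝔸(n; S) ↘ S)
  let hv : ∀ (T : Over S), Γ(T.left, ⊤) → (T ⟶ Z) := fun T s =>
    Over.homMk (AffineSpace.homOfVector T.hom fun _ => s) (AffineSpace.homOfVector_over _ _)
  have hv_comp : ∀ (T T' : Over S) (m : T' ⟶ T) (s : Γ(T.left, ⊤)), m ≫ hv T s = hv T' (m.left.appTop s) := by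
    intro T T' m s
    refine Over.OverMorphism.ext ?_
    change m.left ≫ AffineSpace.homOfVector T.hom _ = AffineSpace.homOfVector T'.hom _
    rw [AffineSpace.comp_homOfVector, Over.w]
    rfl
  have hv_inj : ∀ (T : Over S), Function.Injective (hv T) := fun T s s' h => by
    have := congrArg (fun m : T ⟶ Z => m.left.appTop (AffineSpace.coord S PUnit.unit)) h
    simpa [hv, Z] using this
  have hv_surj : ∀ (T : Over S) (m : T ⟶ Z), ∃ s, hv T s = m := fun T m =>
    ⟨m.left.appTop (AffineSpace.coord S PUnit.unit), Over.OverMorphism.ext (AffineSpace.hom_ext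
      ((AffineSpace.homOfVector_over _ _).trans (Over.w m).symm) fun i => by
        cases i; exact AffineSpace.homOfVector_appTop_coord _ _ _)⟩
  let rX := pr.left.appLE (φ.left ⁻¹ᵁ U) ⊤ (by intro x _; exact x.2)
  let rY := g.left.appLE U ⊤ (by intro x _; exact x.2)
  have hrX : Function.Injective rX := by
    have : rX = (φ.left ⁻¹ᵁ U).topIso.inv := by
      change (φ.left ⁻¹ᵁ U).ι.appLE _ _ _ = _
      rw [Scheme.Opens.ι_appLE, Scheme.Opens.topIso_inv]
      rfl
    rw [this]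
    exact (φ.left ⁻¹ᵁ U).topIso.commRingCatIsoToRingEquiv.symm.injective
  have hrY : Function.Bijective rY := by
    have : rY = U.topIso.inv := by
      change U.ι.appLE _ _ _ = _
      rw [Scheme.Opens.ι_appLE, Scheme.Opens.topIso_inv]
      rfl
    rw [this]
    exact U.topIso.commRingCatIsoToRingEquiv.symm.bijective
  have hcomm : ∀ t : Γ(Y.left, U), φ'.left.appTop (rY t) = rX (φ.left.app U t) := by
    intro t
    rw [φ.left.app_eq_appLE]
    simp only [rX, rY, Scheme.Hom.appTop, φ'.left.app_eq_appLE, ← CommRingCat.comp_apply,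
      Scheme.Hom.appLE_comp_appLE]
    congr 3
    exact morphismRestrict_ι φ.left U
  constructor
  · intro t t' h
    apply hrY.1
    apply hv_inj Y'
    obtain ⟨χ, -, huniq⟩ := hcat.2 Z (φ' ≫ hv Y' (rY t)) (by unfold GIT.IsInvariant; rw [← Category.assoc, hi', Category.assoc])
    refine (huniq _ rfl).trans (huniq _ ?_).symm
    change φ' ≫ hv Y' (rY t') = φ' ≫ hv Y' (rY t)
    rw [hv_comp, hv_comp, hcomm, hcomm, h]
  · ext f
    constructor
    · rintro ⟨t, rfl⟩
      rw [φ.left.app_eq_appLE]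
      exact isInvSection_appLE hi U U le_rfl t
    · intro hf
      let W := a.act.left ⁻¹ᵁ (φ.left ⁻¹ᵁ U) ⊓ (snd G X).left ⁻¹ᵁ (φ.left ⁻¹ᵁ U)
      have hs : (snd G X').left ≫ pr.left = (G ◁ pr).left ≫ (snd G X).left := by
        rw [← Over.comp_left, ← Over.comp_left, whiskerLeft_snd]
      have hW : (⊤ : (G ⊗ X').left.Opens) ≤ (G ◁ pr).left ⁻¹ᵁ W := fun w _ => by
        refine ⟨?_, ?_⟩
        · show ((G ◁ pr).left ≫ a.act.left) w ∈ φ.left ⁻¹ᵁ U
          rw [← Over.comp_left, ← ha]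
          exact (a'.act.left w).2
        · show ((G ◁ pr).left ≫ (snd G X).left) w ∈ φ.left ⁻¹ᵁ U
          rw [← hs]
          exact ((snd G X').left w).2
      have key : a'.act.left.appTop (rX f) = (snd G X').left.appTop (rX f) := by
        have e := congrArg ((G ◁ pr).left.appLE W ⊤ hW) (show GIT.IsInvSection a φ U f from hf)
        simp only [W, Scheme.Hom.appTop, a'.act.left.app_eq_appLE, (snd G X').left.app_eq_appLE, rX,
          ← CommRingCat.comp_apply, Scheme.Hom.appLE_comp_appLE] at e ⊢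
        simp only [← Over.comp_left, ha, whiskerLeft_snd] at e ⊢
        exact e
      obtain ⟨χ, hχ, -⟩ := hcat.2 Z (hv X' (rX f)) (by
        unfold GIT.IsInvariant
        rw [hv_comp, hv_comp, key])
      obtain ⟨s, rfl⟩ := hv_surj Y' χ
      obtain ⟨t, rfl⟩ := hrY.2 s
      refine ⟨t, hrX (hv_inj X' ?_)⟩
      rw [← hcomm, ← hv_comp]
      exact hχ

theorem surjective_of_univCatQuot (h : GIT.IsUnivCatQuot a φ) : Function.Surjective φ.left.base := by
  intro y
  by_contra hy
  let q := Y.left.fromSpecResidueField y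
  let Y' : Over S := Over.mk (q ≫ Y.hom)
  let g : Y' ⟶ Y := Over.homMk q rfl
  let X' : Over S := Over.mk (Limits.pullback.snd φ.left q ≫ Y'.hom)
  let φ' : X' ⟶ Y' := Over.homMk (Limits.pullback.snd φ.left q) rfl
  let pr : X' ⟶ X := Over.homMk (Limits.pullback.fst φ.left q) (by
    change _ = Limits.pullback.snd φ.left q ≫ q ≫ Y.hom
    rw [← Over.w φ, Limits.pullback.condition_assoc])
  have hpb : IsPullback pr φ' φ g := isPullback_of_left (IsPullback.of_hasPullback φ.left q)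
  obtain ⟨a', ha, hi'⟩ := exists_action h.1.1 hpb
  have hcat := h.2 pr φ' g trivial hpb a' ha hi'
  haveI hX : IsEmpty X'.left := ⟨fun x => hy ⟨pr.left x, by
    have := congrArg (fun m : X' ⟶ Y => m.left x) hpb.w
    refine this.trans ?_
    exact Y.left.fromSpecResidueField_apply y (φ'.left x)⟩⟩
  let Z : Over S := Over.mk (Scheme.emptyTo S)
  let ψ : X' ⟶ Z := Over.homMk ((isInitialOfIsEmpty (X := X'.left)).to ∅) ((isInitialOfIsEmpty (X := X'.left)).hom_ext _ _)
  haveI : IsEmpty (G ⊗ X').left := Function.isEmpty (snd G X').left.base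
  have hψ : GIT.IsInvariant a' ψ := Over.OverMorphism.ext ((isInitialOfIsEmpty (X := (G ⊗ X').left)).hom_ext _ _)
  obtain ⟨χ, -⟩ := hcat.2 Z ψ hψ
  obtain ⟨p⟩ : Nonempty (Spec (Y.left.residueField y)) := inferInstance
  exact PEmpty.elim (χ.left p)

theorem afterBaseChange_trans (h : GIT.AfterBaseChange (fun _ _ a' φ' => GIT.IsCatQuot a' φ') (fun _ _ => True) a φ)
    {pr : X' ⟶ X} {φ' : X' ⟶ Y'} {g : Y' ⟶ Y} (hpb : IsPullback pr φ' φ g)
    {a' : AlgGrp.Action G X'} (ha : a'.act ≫ pr = (G ◁ pr) ≫ a.act) :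
    GIT.AfterBaseChange (fun _ _ a'' φ'' => GIT.IsCatQuot a'' φ'') (fun _ _ => True) a' φ' := by
  intro X'' Y'' pr' φ'' g' _ hpb' a'' ha' hi''
  refine h (pr' ≫ pr) φ'' (g' ≫ g) trivial (hpb'.paste_horiz hpb) a'' ?_ hi''
  rw [reassoc_of% ha', ha, whiskerLeft_comp_assoc]

theorem orbit_baseChange (hi : GIT.IsInvariant a φ) (ho : Function.Surjective (GIT.PsiY a φ hi).base)
    {pr : X' ⟶ X} {φ' : X' ⟶ Y'} {g : Y' ⟶ Y} (hpb : IsPullback pr φ' φ g)
    {a' : AlgGrp.Action G X'} (ha : a'.act ≫ pr = (G ◁ pr) ≫ a.act) (hi' : GIT.IsInvariant a' φ') :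
    Function.Surjective (GIT.PsiY a' φ' hi').base := by
  intro z
  let P' := Limits.pullback φ'.left φ'.left
  have hw : pr.left ≫ φ.left = φ'.left ≫ g.left := congrArg (·.left) hpb.w
  let v : P' ⟶ Limits.pullback φ.left φ.left :=
    Limits.pullback.lift (Limits.pullback.fst _ _ ≫ pr.left) (Limits.pullback.snd _ _ ≫ pr.left)
      (by rw [Category.assoc, Category.assoc, hw, Limits.pullback.condition_assoc])
  obtain ⟨w, hw'⟩ := ho (v z)
  obtain ⟨r, hr1, -⟩ := Scheme.Pullback.exists_preimage_pullback (f := v) (g := GIT.PsiY a φ hi) z w hw'.symm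
  let fR := Limits.pullback.fst v (GIT.PsiY a φ hi)
  let R' : Over S := Over.mk (fR ≫ Limits.pullback.snd φ'.left φ'.left ≫ X'.hom)
  let x2 : R' ⟶ X' := Over.homMk (fR ≫ Limits.pullback.snd φ'.left φ'.left) (Category.assoc _ _ _)
  let x1 : R' ⟶ X' := Over.homMk (fR ≫ Limits.pullback.fst φ'.left φ'.left) (by
    change _ = fR ≫ Limits.pullback.snd φ'.left φ'.left ≫ X'.hom
    rw [Category.assoc, ← Over.w φ', Limits.pullback.condition_assoc])
  let rGX : R' ⟶ G ⊗ X := Over.homMk (Limits.pullback.snd v (GIT.PsiY a φ hi)) (by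
    change _ = fR ≫ Limits.pullback.snd φ'.left φ'.left ≫ X'.hom
    have h2 := congrArg (· ≫ Limits.pullback.snd φ.left φ.left ≫ X.hom)
      (Limits.pullback.condition (f := v) (g := GIT.PsiY a φ hi))
    simp only [Category.assoc, v, GIT.PsiY, Limits.pullback.lift_snd_assoc, Over.w] at h2
    exact h2.symm)
  have e1 : x1 ≫ pr = rGX ≫ a.act := by
    have h2 := congrArg (· ≫ Limits.pullback.fst φ.left φ.left)
      (Limits.pullback.condition (f := v) (g := GIT.PsiY a φ hi))
    simp only [Category.assoc, v, GIT.PsiY, Limits.pullback.lift_fst] at h2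
    refine Over.OverMorphism.ext ?_
    rw [Over.comp_left, Over.comp_left]
    exact (Category.assoc _ _ _).trans h2
  have e2 : x2 ≫ pr = rGX ≫ snd G X := by
    have h2 := congrArg (· ≫ Limits.pullback.snd φ.left φ.left)
      (Limits.pullback.condition (f := v) (g := GIT.PsiY a φ hi))
    simp only [Category.assoc, v, GIT.PsiY, Limits.pullback.lift_snd] at h2
    refine Over.OverMorphism.ext ?_
    rw [Over.comp_left, Over.comp_left]
    exact (Category.assoc _ _ _).trans h2
  let m : R' ⟶ G ⊗ X' := lift (rGX ≫ fst G X) x2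
  have e3 : m ≫ (G ◁ pr) = rGX := by
    apply CartesianMonoidalCategory.hom_ext
    · simp [m]
    · simpa [m] using e2
  have e4 : m ≫ a'.act = x1 := by
    apply hpb.hom_ext
    · rw [Category.assoc, ha, ← Category.assoc, e3, e1]
    · rw [Category.assoc, hi', ← Category.assoc, lift_snd]
      refine Over.OverMorphism.ext ?_
      rw [Over.comp_left, Over.comp_left]
      change (fR ≫ _) ≫ _ = (fR ≫ _) ≫ _
      rw [Category.assoc, Category.assoc, Limits.pullback.condition]
  refine ⟨m.left r, ?_⟩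
  have key : m.left ≫ GIT.PsiY a' φ' hi' = fR := by
    apply Limits.pullback.hom_ext
    · rw [Category.assoc, GIT.PsiY, Limits.pullback.lift_fst, ← Over.comp_left, e4]
      rfl
    · rw [Category.assoc, GIT.PsiY, Limits.pullback.lift_snd, ← Over.comp_left, lift_snd]
      rfl
  exact (congrArg (fun k : R'.left ⟶ P' => k r) key).trans hr1

theorem isUnivGeomQuot_iff (h : GIT.IsUnivCatQuot a φ) :
    GIT.IsUnivGeomQuot a φ ↔ GIT.IsUnivSubmersive φ.left ∧ Function.Surjective (GIT.PsiY a φ h.1.1).base := by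
  refine ⟨fun hu => ⟨hu.1.subm, hu.1.orbit⟩, fun ⟨hs, ho⟩ => ⟨⟨h.1.1, surjective_of_univCatQuot h, ho, hs,
    sections_of_restrict h.1.1 fun _ _ _ pr φ' g hpb _ a' ha hi => h.2 pr φ' g trivial hpb a' ha hi⟩, ?_⟩⟩
  intro X' Y' pr φ' g _ hpb a' ha hi'
  have h' := afterBaseChange_trans h.2 hpb ha
  have hu' : GIT.IsUnivCatQuot a' φ' := ⟨h.2 pr φ' g trivial hpb a' ha hi', h'⟩
  refine ⟨hi', surjective_of_univCatQuot hu', orbit_baseChange h.1.1 ho hpb ha hi', ?_,
    sections_of_restrict hi' fun _ _ _ pr'' φ'' g'' hpb'' _ a'' ha'' hi'' => h' pr'' φ'' g'' trivial hpb'' a'' ha'' hi''⟩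
  exact MorphismProperty.of_isPullback (P := MorphismProperty.universally (topologically @IsQuotientMap))
    (hpb.map (Over.forget S)) hs

end Groth.Agent.H20GQ
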