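import Groth.Prelude.Def_QuotSh
import Groth.Agent.H20GQ.Univ
import Groth.Agent.H13Desc.Fpqc
import Mathlib.CategoryTheory.Sites.LocallyInjective
import Mathlib.CategoryTheory.Sites.LocallySurjective
import Mathlib.CategoryTheory.Sites.EpiMono
import Mathlib.CategoryTheory.Sites.SubcanonicalOver
import Mathlib.AlgebraicGeometry.Morphisms.UniversallyOpen
import Mathlib.AlgebraicGeometry.Morphisms.FlatDescent

/-!
fppf quotients are geometric quotients.
-/

set_option autoImplicit false
set_option backward.isDefEq.respectTransparency false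

universe u

open CategoryTheory MonoidalCategory CartesianMonoidalCategory MonObj AlgebraicGeometry Opposite Topology

namespace Groth.Agent.H20GQ

variable {S : Scheme.{u}} {G X Y : Over S} [GrpObj G] (a : AlgGrp.Action G X) (q : X ⟶ Y)

/-- arrows along which a point of the quotient lifts -/
def lifts {T : Over S} (y : T ⟶ Y) : Sieve T where
  arrows V i := ∃ x : V ⟶ X, x ≫ q = i ≫ y
  downward_closed := fun {V W} i ⟨x, hx⟩ j => ⟨j ≫ x, by rw [Category.assoc, hx, Category.assoc]⟩

/-- arrows along which two points are in one orbit -/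
def orb {T : Over S} (x x' : T ⟶ X) : Sieve T where
  arrows V i := ∃ g : V ⟶ G, lift g (i ≫ x') ≫ a.act = i ≫ x
  downward_closed := fun {V W} i ⟨g, hg⟩ j => ⟨j ≫ g, by
    rw [Category.assoc, Category.assoc, ← hg, ← comp_lift_assoc]⟩

/-- a topology with enough covers for quotient arguments -/
structure GoodTop (K : Precoverage Scheme.{u}) : Prop where
  subcanonical : ∀ S : Scheme.{u}, (QuotSh.J K S).Subcanonical
  covers : ∀ {S : Scheme.{u}} {T : Over S} {R : Sieve T}, R ∈ QuotSh.J K S T → ∀ t : T.left,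
    ∃ (V : Over S) (i : V ⟶ T) (v : V.left), R i ∧ i.left v = t
  open' : ∀ {S : Scheme.{u}} {T : Over S} {R : Sieve T}, R ∈ QuotSh.J K S T → ∀ A : Set T.left,
    (∀ (V : Over S) (i : V ⟶ T), R i → IsOpen (i.left ⁻¹' A)) → IsOpen A

variable (K : Precoverage Scheme.{u})

/-- `q` is a surjection for the topology whose fibres are orbits locally -/
structure IsLocQuot : Prop where
  inv : GIT.IsInvariant a q
  ls : ∀ (T : Over S) (y : T ⟶ Y), lifts q y ∈ QuotSh.J K S T
  lo : ∀ (T : Over S) (x x' : T ⟶ X), x ≫ q = x' ≫ q → orb a x x' ∈ QuotSh.J K S T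

variable {a q} {K}

theorem IsLocQuot.baseChange (h : IsLocQuot a q K) {X' Y' : Over S} {pr : X' ⟶ X} {q' : X' ⟶ Y'} {g : Y' ⟶ Y}
    (hpb : IsPullback pr q' q g) {a' : AlgGrp.Action G X'} (ha : a'.act ≫ pr = (G ◁ pr) ≫ a.act)
    (hi : GIT.IsInvariant a' q') : IsLocQuot a' q' K where
  inv := hi
  ls T y := by
    refine (QuotSh.J K S).superset_covering ?_ (h.ls T (y ≫ g))
    rintro V i ⟨x, hx⟩
    exact ⟨hpb.lift x (i ≫ y) (by rw [hx, Category.assoc]), hpb.lift_snd _ _ _⟩
  lo T x x' hxx := by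
    refine (QuotSh.J K S).superset_covering ?_
      (h.lo T (x ≫ pr) (x' ≫ pr) (by rw [Category.assoc, Category.assoc, hpb.w, reassoc_of% hxx]))
    rintro V i ⟨γ, hγ⟩
    exact ⟨γ, hpb.hom_ext
      (by rw [Category.assoc, ha, lift_whiskerLeft_assoc, Category.assoc, hγ, Category.assoc])
      (by rw [Category.assoc, hi, lift_snd_assoc, Category.assoc, Category.assoc, hxx])⟩

theorem isSheafFor_hom (hK : GoodTop K) (Z : Over S) {T : Over S} {R : Sieve T} (hR : R ∈ QuotSh.J K S T) :
    Presieve.IsSheafFor (yoneda.obj Z) R.arrows :=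
  haveI := hK.subcanonical S
  (GrothendieckTopology.Subcanonical.isSheaf_of_isRepresentable (J := QuotSh.J K S) (yoneda.obj Z)) R hR

theorem IsLocQuot.isCatQuot (hK : GoodTop K) (h : IsLocQuot a q K) : GIT.IsCatQuot a q := by
  refine ⟨h.inv, fun Z ψ hψ => ?_⟩
  have heq : ∀ (T : Over S) (x x' : T ⟶ X), x ≫ q = x' ≫ q → x ≫ ψ = x' ≫ ψ := fun T x x' hxx => by
    refine (isSheafFor_hom hK Z (h.lo T x x' hxx)).isSeparatedFor.ext fun V i ⟨g, hg⟩ => ?_
    change i ≫ x ≫ ψ = i ≫ x' ≫ ψ
    rw [← Category.assoc, ← hg, Category.assoc, hψ, lift_snd_assoc, Category.assoc]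
  let fam : Presieve.FamilyOfElements (yoneda.obj Z) (lifts q (𝟙 Y)).arrows :=
    fun V i hi => hi.choose ≫ ψ
  have hc : fam.Compatible := Presieve.compatible_iff_sieveCompatible fam |>.2 fun V W i j hi => by
    change _ = j ≫ (hi.choose ≫ ψ)
    rw [← Category.assoc]
    refine heq _ _ _ (Eq.trans ((lifts q (𝟙 Y)).downward_closed hi j).choose_spec ?_)
    rw [Category.assoc, Category.assoc, hi.choose_spec]
  obtain ⟨χ, hχ, huniq⟩ := isSheafFor_hom hK Z (h.ls Y (𝟙 Y)) fam hc
  have hq : (lifts q (𝟙 Y)).arrows q := ⟨𝟙 X, by rw [Category.id_comp, Category.comp_id]⟩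
  refine ⟨χ, ?_, fun χ' hχ' => huniq χ' fun V i hi => ?_⟩
  · have := hχ q hq
    change q ≫ χ = hq.choose ≫ ψ at this
    change q ≫ χ = ψ
    rw [this]
    refine (heq _ _ (𝟙 X) ?_).trans (Category.id_comp ψ)
    rw [hq.choose_spec, Category.id_comp, Category.comp_id]
  · change i ≫ χ' = hi.choose ≫ ψ
    rw [← hχ', ← Category.assoc, hi.choose_spec, Category.comp_id]

theorem exists_cover {S : Scheme.{u}} {T : Over S} {R : Sieve T} (hR : R ∈ QuotSh.J Scheme.fppfPrecoverage S T) (t : T.left) :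
    ∃ (V : Over S) (i : V ⟶ T) (v : V.left), R i ∧ Flat i.left ∧ LocallyOfFinitePresentation i.left ∧ i.left v = t := by
  have hci : (@Flat ⊓ @LocallyOfFinitePresentation : MorphismProperty Scheme.{u}).ContainsIdentities :=
    ⟨fun X => ⟨inferInstance, inferInstance⟩⟩
  have hri : (@Flat ⊓ @LocallyOfFinitePresentation : MorphismProperty Scheme.{u}).RespectsIso :=
    MorphismProperty.RespectsIso.mk _ (fun e f hf => ⟨(MorphismProperty.cancel_left_of_respectsIso @Flat e.hom f).2 hf.1,
        (MorphismProperty.cancel_left_of_respectsIso @LocallyOfFinitePresentation e.hom f).2 hf.2⟩)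
      (fun e f hf => ⟨(MorphismProperty.cancel_right_of_respectsIso @Flat f e.hom).2 hf.1,
        (MorphismProperty.cancel_right_of_respectsIso @LocallyOfFinitePresentation f e.hom).2 hf.2⟩)
  haveI : Scheme.fppfPrecoverage.HasIsos := by unfold Scheme.fppfPrecoverage; infer_instance
  rw [GrothendieckTopology.mem_over_iff, Precoverage.mem_toGrothendieck_iff_of_isStableUnderComposition] at hR
  obtain ⟨P, hP, hPR⟩ := hR
  obtain ⟨J0, W, f, rfl⟩ := P.exists_eq_ofArrows
  rw [Scheme.fppfPrecoverage, Scheme.ofArrows_mem_precoverage_iff] at hP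
  obtain ⟨j, w, hw⟩ := hP.1 t
  have hf : Presieve.ofArrows W f (f j) := ⟨j⟩
  have := hPR _ _ hf
  rw [Sieve.overEquiv_iff] at this
  exact ⟨_, _, w, this, (hP.2 j).1, (hP.2 j).2, hw⟩

theorem IsLocQuot.surjective (hK : GoodTop K) (h : IsLocQuot a q K) : Function.Surjective q.left.base := fun y => by
  obtain ⟨V, i, v, ⟨x, hx⟩, hv⟩ := hK.covers (h.ls Y (𝟙 Y)) y
  refine ⟨x.left v, ?_⟩
  rw [Category.comp_id] at hx
  rw [← hv]
  exact congrArg (fun m : V ⟶ Y => m.left v) hx

theorem IsLocQuot.isQuotientMap (hK : GoodTop K) (h : IsLocQuot a q K) : IsQuotientMap q.left.base := by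
  suffices key : ∀ A : Set Y.left, IsOpen (q.left ⁻¹' A) → IsOpen A from
    Topology.isQuotientMap_iff_isClosed.2 ⟨(h.surjective hK), fun A => ⟨fun hA => hA.preimage q.left.continuous,
      fun hA => isOpen_compl_iff.1 (key Aᶜ (by rw [Set.preimage_compl]; exact hA.isOpen_compl))⟩⟩
  intro A hA
  refine hK.open' (h.ls Y (𝟙 Y)) A ?_
  rintro V i ⟨x, hx⟩
  rw [Category.comp_id] at hx
  have hpre : i.left ⁻¹' A = x.left ⁻¹' (q.left ⁻¹' A) := by
    rw [← hx]; rfl
  exact hpre ▸ hA.preimage x.left.continuous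

theorem goodTop_fppf : GoodTop Scheme.fppfPrecoverage.{u} where
  subcanonical S := inferInstance
  covers hR t := by
    obtain ⟨V, i, v, hi, -, -, hv⟩ := exists_cover hR t
    exact ⟨V, i, v, hi, hv⟩
  open' hR A hA := by
    rw [isOpen_iff_forall_mem_open]
    intro y hy
    obtain ⟨V, i, v, hi, hfl, hfp, hv⟩ := exists_cover hR y
    haveI := hfl
    haveI := hfp
    exact ⟨i.left '' (i.left ⁻¹' A), Set.image_preimage_subset _ _, i.left.isOpenMap _ (hA V i hi),
      ⟨v, by show i.left v ∈ A; rw [hv]; exact hy, hv⟩⟩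

theorem goodTop_fpqc : GoodTop Scheme.fpqcPrecoverage.{u} where
  subcanonical S := inferInstance
  covers {S T R} hR t := by
    rw [GrothendieckTopology.mem_over_iff, Precoverage.mem_toGrothendieck_iff_of_isStableUnderComposition] at hR
    obtain ⟨P, hP, hPR⟩ := hR
    obtain ⟨J0, W, f, rfl⟩ := P.exists_eq_ofArrows
    obtain ⟨j, w, hw⟩ := H13Desc.fpqc_covers hP t
    have := hPR _ _ (Presieve.ofArrows.mk j)
    rw [Sieve.overEquiv_iff] at this
    exact ⟨_, _, w, this, hw⟩
  open' {S T R} hR A hA := by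
    rw [GrothendieckTopology.mem_over_iff, Precoverage.mem_toGrothendieck_iff_of_isStableUnderComposition] at hR
    obtain ⟨P, hP, hPR⟩ := hR
    obtain ⟨J0, W, f, rfl⟩ := P.exists_eq_ofArrows
    refine H13Desc.isOpen_of_fpqc hP A fun j => ?_
    have := hPR _ _ (Presieve.ofArrows.mk j)
    rw [Sieve.overEquiv_iff] at this
    exact hA _ _ this

theorem IsLocQuot.univSubmersive (hK : GoodTop K) (h : IsLocQuot a q K) : GIT.IsUnivSubmersive q.left := by
  intro X₁ Y₁ i₁ i₂ f' sq
  let Y' : Over S := Over.mk (i₂ ≫ Y.hom)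
  let X' : Over S := Over.mk (i₁ ≫ X.hom)
  let q' : X' ⟶ Y' := Over.homMk f' (by
    change f' ≫ i₂ ≫ Y.hom = i₁ ≫ X.hom
    rw [sq.w_assoc, Over.w q])
  let g : Y' ⟶ Y := Over.homMk i₂ rfl
  let pr : X' ⟶ X := Over.homMk i₁ rfl
  have hpb : IsPullback pr q' q g := isPullback_of_left sq.flip
  obtain ⟨a', ha, hi'⟩ := exists_action h.inv hpb
  exact (h.baseChange hpb ha hi').isQuotientMap hK

theorem IsLocQuot.orbit (hK : GoodTop K) (h : IsLocQuot a q K) : Function.Surjective (GIT.PsiY a q h.inv).base := by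
  intro z
  let P := Limits.pullback q.left q.left
  let T : Over S := Over.mk (Limits.pullback.fst q.left q.left ≫ X.hom)
  let x : T ⟶ X := Over.homMk (Limits.pullback.fst q.left q.left) rfl
  let x' : T ⟶ X := Over.homMk (Limits.pullback.snd q.left q.left) (by
    change _ = Limits.pullback.fst q.left q.left ≫ X.hom
    rw [← Over.w q, Limits.pullback.condition_assoc])
  obtain ⟨V, i, v, ⟨g, hg⟩, hv⟩ := hK.covers (h.lo T x x' (Over.OverMorphism.ext Limits.pullback.condition)) z
  refine ⟨(lift g (i ≫ x')).left v, ?_⟩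
  have key : (lift g (i ≫ x')).left ≫ GIT.PsiY a q h.inv = i.left := by
    apply Limits.pullback.hom_ext
    · rw [Category.assoc, GIT.PsiY, Limits.pullback.lift_fst, ← Over.comp_left, hg]; rfl
    · rw [Category.assoc, GIT.PsiY, Limits.pullback.lift_snd, ← Over.comp_left, lift_snd]; rfl
  exact (congrArg (fun m : V.left ⟶ P => m v) key).trans hv

theorem IsLocQuot.isGeomQuot (hK : GoodTop K) (h : IsLocQuot a q K) : GIT.IsGeomQuot a q :=
  ⟨h.inv, h.surjective hK, h.orbit hK, h.univSubmersive hK,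
    sections_of_restrict h.inv fun _ _ _ _ _ _ hpb _ _ ha hi => (h.baseChange hpb ha hi).isCatQuot hK⟩

theorem act_one {T : Over S} (x : T ⟶ X) : lift (1 : T ⟶ G) x ≫ a.act = x := by
  rw [show lift (1 : T ⟶ G) x = lift (toUnit T) x ≫ (η[G] ▷ X) by simp [Hom.one_def], Category.assoc, a.one_act]
  simp [leftUnitor_hom]

theorem act_mul {T : Over S} (g h : T ⟶ G) (x : T ⟶ X) :
    lift (g * h) x ≫ a.act = lift g (lift h x ≫ a.act) ≫ a.act := by
  rw [show lift (g * h) x = lift (lift g h) x ≫ (μ[G] ▷ X) by simp [Hom.mul_def], Category.assoc, a.mul_act]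
  simp

/-- one orbit -/
def Rel (T : Over S) (x x' : T ⟶ X) : Prop := ∃ g : T ⟶ G, lift g x' ≫ a.act = x

theorem rel_equiv (T : Over S) : Equivalence (Rel (a := a) T) where
  refl x := ⟨1, act_one x⟩
  symm := fun {x x'} ⟨g, hg⟩ => ⟨g⁻¹, by rw [← hg, ← act_mul, inv_mul_cancel, act_one]⟩
  trans := fun {x y z} ⟨g, hg⟩ ⟨h, hh⟩ => ⟨g * h, by rw [act_mul, hh, hg]⟩

variable (a) in
/-- the presheaf of orbits -/
def orbitPresheaf : (Over S)ᵒᵖ ⥤ Type (u + 1) where
  obj T := ULift.{u + 1} (Quot (Rel (a := a) T.unop))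
  map {T T'} f := TypeCat.ofHom fun c => ⟨Quot.map (f.unop ≫ ·) (fun x x' ⟨g, hg⟩ => ⟨f.unop ≫ g, by
    rw [← comp_lift_assoc, hg]⟩) c.down⟩
  map_id T := by
    ext ⟨c⟩
    induction c using Quot.ind with
    | mk x => exact congrArg (Quot.mk _) (Category.id_comp x)
  map_comp f g := by
    ext ⟨c⟩
    induction c using Quot.ind with
    | mk x => exact congrArg (Quot.mk _) (Category.assoc _ _ x)

variable (a) in
/-- projection to the orbits -/
def orbitπ : (yoneda.obj X ⋙ uliftFunctor.{u + 1, u}) ⟶ orbitPresheaf a where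
  app T := TypeCat.ofHom fun x => ⟨Quot.mk _ x.down⟩
  naturality _ _ _ := rfl

/-- a point as a section of the lifted representable presheaf -/
def upt {V T : Over S} (z : T ⟶ V) : (yoneda.obj V ⋙ uliftFunctor.{u + 1, u}).obj (op T) := ULift.up z

theorem isLocQuot_of_isQuotient (hq : QuotSh.IsQuotient Scheme.fppfPrecoverage a.act (snd G X) q) : IsLocQuot a q Scheme.fppfPrecoverage := by
  obtain ⟨w, hiso⟩ := hq
  haveI := hiso
  let J := QuotSh.J Scheme.fppfPrecoverage S
  let Φ := presheafToSheaf J (Type (u + 1))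
  let w1 : ∀ {A B : Over S} (f : A ⟶ B), (yoneda.obj A ⋙ uliftFunctor.{u + 1, u}) ⟶ (yoneda.obj B ⋙ uliftFunctor.{u + 1, u}) :=
    fun f => Functor.whiskerRight (yoneda.map f) uliftFunctor.{u + 1, u}
  have hπq : QuotSh.quotπ Scheme.fppfPrecoverage a.act (snd G X) ≫ QuotSh.quotDesc Scheme.fppfPrecoverage q w =
      QuotSh.repMap Scheme.fppfPrecoverage q := Limits.coequalizer.π_desc _ _
  refine ⟨w, fun T y => ?_, fun T x x' hxx => ?_⟩
  · have he : Epi (QuotSh.repMap Scheme.fppfPrecoverage q) := by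
      rw [← hπq]
      haveI : Epi (QuotSh.quotπ Scheme.fppfPrecoverage a.act (snd G X)) := Limits.coequalizer.π_epi
      exact epi_comp _ _
    have h1 : Sheaf.IsLocallySurjective (QuotSh.repMap Scheme.fppfPrecoverage q) :=
      (Sheaf.isLocallySurjective_iff_epi' (Type (u + 1)) _).2 he
    have h2 : Presheaf.IsLocallySurjective J (w1 q) := (Presheaf.isLocallySurjective_presheafToSheaf_map_iff _ _).1 h1
    refine J.superset_covering ?_ (h2.imageSieve_mem (U := T) (ULift.up y))
    rintro V i ⟨⟨t⟩, ht⟩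
    exact ⟨t, congrArg ULift.down ht⟩
  · have hcond : QuotSh.repMap Scheme.fppfPrecoverage a.act ≫ Φ.map (orbitπ a) =
        QuotSh.repMap Scheme.fppfPrecoverage (snd G X) ≫ Φ.map (orbitπ a) := by
      rw [← Φ.map_comp, ← Φ.map_comp]
      congr 1
      ext V r
      obtain ⟨r⟩ := r
      exact congrArg ULift.up (Quot.sound (⟨r ≫ fst G X, by rw [← comp_lift_assoc, lift_fst_snd, Category.id_comp]⟩ :
        Rel (a := a) V.unop (r ≫ a.act) (r ≫ snd G X)))
    let κ := inv (QuotSh.quotDesc Scheme.fppfPrecoverage q w) ≫ Limits.coequalizer.desc (Φ.map (orbitπ a)) hcond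
    have hκ : QuotSh.repMap Scheme.fppfPrecoverage q ≫ κ = Φ.map (orbitπ a) := by
      rw [← hπq, Category.assoc, IsIso.hom_inv_id_assoc]
      exact Limits.coequalizer.π_desc _ _
    have hv : orbitπ a ≫ toSheafify J (orbitPresheaf a) =
        w1 q ≫ toSheafify J (yoneda.obj Y ⋙ uliftFunctor.{u + 1, u}) ≫ κ.hom := by
      rw [toSheafify_naturality J (orbitπ a), ← Category.assoc, toSheafify_naturality J (w1 q), Category.assoc]
      congr 1
      exact (congrArg (fun m => m.hom) hκ).symm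
    have hx : (toSheafify J (orbitPresheaf a)).app (op T) ((orbitπ a).app (op T) (upt x)) =
        (toSheafify J (orbitPresheaf a)).app (op T) ((orbitπ a).app (op T) (upt x')) := by
      have e : ∀ z : T ⟶ X, (toSheafify J (orbitPresheaf a)).app (op T) ((orbitπ a).app (op T) (upt z)) =
          κ.hom.app (op T) ((toSheafify J (yoneda.obj Y ⋙ uliftFunctor.{u + 1, u})).app (op T) (upt (z ≫ q))) := fun z =>
        ConcreteCategory.congr_hom (congr_app hv (op T)) (upt z)
      rw [e, e, hxx]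
    refine J.superset_covering ?_ (Presheaf.equalizerSieve_mem J (toSheafify J (orbitPresheaf a)) _ _ hx)
    intro V i hi
    have h1 : Quot.mk (Rel (a := a) V) (i ≫ x) = Quot.mk _ (i ≫ x') := congrArg ULift.down hi
    exact (rel_equiv V).eqvGen_iff.1 (Quot.eqvGen_exact h1)

end Groth.Agent.H20GQ
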