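import Groth.Agent.H20GQ.Orbit
import Groth.Agent.H20GQ.Univ

/-!
Geometric quotients restrict along open immersions.
-/

set_option autoImplicit false
set_option backward.isDefEq.respectTransparency false

universe u

open CategoryTheory MonoidalCategory CartesianMonoidalCategory MonObj AlgebraicGeometry Topology

namespace Groth.Agent.H20GQ

theorem appLE_bijective {A B : Scheme.{u}} (f : A ⟶ B) [IsOpenImmersion f] {U : B.Opens} {V : A.Opens}
    (hU : U ≤ f.opensRange) (e : V = f ⁻¹ᵁ U) : Function.Bijective (f.appLE U V e.le) := by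
  subst e
  rw [← f.app_eq_appLE]
  haveI := f.isIso_app U hU
  exact ConcreteCategory.bijective_of_isIso _

variable {S : Scheme.{u}} {G X Y X' Y' : Over S} [GrpObj G] {a : AlgGrp.Action G X} {φ : X ⟶ Y}

theorem sections_openImmersion (hi : GIT.IsInvariant a φ)
    (hsec : ∀ U : Y.left.Opens,
      Function.Injective (φ.left.app U) ∧ Set.range (φ.left.app U) = {f | GIT.IsInvSection a φ U f})
    {pr : X' ⟶ X} {φ' : X' ⟶ Y'} {g : Y' ⟶ Y} (hpb : IsPullback pr φ' φ g) [IsOpenImmersion g.left]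
    {a' : AlgGrp.Action G X'} (ha : a'.act ≫ pr = (G ◁ pr) ≫ a.act) (hi' : GIT.IsInvariant a' φ') (V : Y'.left.Opens) :
    Function.Injective (φ'.left.app V) ∧ Set.range (φ'.left.app V) = {f | GIT.IsInvSection a' φ' V f} := by
  have sq : IsPullback pr.left φ'.left φ.left g.left := hpb.map (Over.forget S)
  haveI : IsOpenImmersion pr.left := MorphismProperty.of_isPullback (P := @IsOpenImmersion) sq.flip ‹_›
  let U : Y.left.Opens := g.left ''ᵁ V
  have hV : V = g.left ⁻¹ᵁ U := (g.left.preimage_image_eq V).symm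
  have hUr : U ≤ g.left.opensRange := by rintro _ ⟨v, _, rfl⟩; exact ⟨v, rfl⟩
  have hP : φ'.left ⁻¹ᵁ V = pr.left ⁻¹ᵁ (φ.left ⁻¹ᵁ U) := by
    rw [hV]
    ext x
    show g.left (φ'.left x) ∈ U ↔ φ.left (pr.left x) ∈ U
    rw [← Scheme.Hom.comp_apply, ← Scheme.Hom.comp_apply, sq.w]
  have hPr : φ.left ⁻¹ᵁ U ≤ pr.left.opensRange := by
    intro x hx
    obtain ⟨v, -, hv⟩ := hx
    obtain ⟨z, hz, -⟩ := Scheme.Pullback.exists_preimage_pullback (f := φ.left) (g := g.left) x v hv.symm
    exact ⟨sq.isoPullback.inv z, by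
      rw [← Scheme.Hom.comp_apply, sq.isoPullback_inv_fst]; exact hz⟩
  have hg := appLE_bijective g.left hUr hV
  have hp := appLE_bijective pr.left hPr hP
  have hcomm : ∀ t, φ'.left.app V (g.left.appLE U V hV.le t) = pr.left.appLE _ _ hP.le (φ.left.app U t) := by
    intro t
    rw [φ'.left.app_eq_appLE, φ.left.app_eq_appLE, ← CommRingCat.comp_apply, ← CommRingCat.comp_apply,
      Scheme.Hom.appLE_comp_appLE, Scheme.Hom.appLE_comp_appLE]
    congr 3
    exact sq.w.symm
  constructor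
  · intro t t' h
    obtain ⟨s, rfl⟩ := hg.2 t
    obtain ⟨s', rfl⟩ := hg.2 t'
    rw [hcomm, hcomm] at h
    rw [(hsec U).1 (hp.1 h)]
  · ext f'
    constructor
    · rintro ⟨t, rfl⟩
      rw [φ'.left.app_eq_appLE]
      exact isInvSection_appLE hi' V V le_rfl t
    · intro hf
      obtain ⟨f, rfl⟩ := hp.2 f'
      have hfi : GIT.IsInvSection a φ U f := by
        let W := a.act.left ⁻¹ᵁ (φ.left ⁻¹ᵁ U) ⊓ (snd G X).left ⁻¹ᵁ (φ.left ⁻¹ᵁ U)
        let W' := a'.act.left ⁻¹ᵁ (φ'.left ⁻¹ᵁ V) ⊓ (snd G X').left ⁻¹ᵁ (φ'.left ⁻¹ᵁ V)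
        have sqG := isPullback_whiskerLeft pr G
        haveI : IsOpenImmersion (G ◁ pr).left := MorphismProperty.of_isPullback (P := @IsOpenImmersion) sqG ‹_›
        have hW : W' = (G ◁ pr).left ⁻¹ᵁ W := by
          ext w
          show (a'.act.left w ∈ φ'.left ⁻¹ᵁ V ∧ (snd G X').left w ∈ φ'.left ⁻¹ᵁ V) ↔
            (((G ◁ pr).left ≫ a.act.left) w ∈ φ.left ⁻¹ᵁ U ∧ ((G ◁ pr).left ≫ (snd G X).left) w ∈ φ.left ⁻¹ᵁ U)
          rw [hP, ← Over.comp_left, ← Over.comp_left, ← ha, whiskerLeft_snd]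
          rfl
        have hWr : W ≤ (G ◁ pr).left.opensRange := by
          rintro w ⟨-, hw⟩
          obtain ⟨x, hx⟩ := hPr hw
          obtain ⟨z, -, hz⟩ := Scheme.Pullback.exists_preimage_pullback (f := pr.left) (g := (snd G X).left) x w hx
          exact ⟨sqG.isoPullback.inv z, by
            rw [← Scheme.Hom.comp_apply, sqG.isoPullback_inv_snd]; exact hz⟩
        unfold GIT.IsInvSection
        apply (appLE_bijective (G ◁ pr).left hWr hW).1
        have hf' : GIT.IsInvSection a' φ' V (pr.left.appLE _ _ hP.le f) := hf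
        unfold GIT.IsInvSection at hf'
        simp only [W, W', ← CommRingCat.comp_apply, Scheme.Hom.appLE_comp_appLE] at hf' ⊢
        simp only [← Over.comp_left, ha, whiskerLeft_snd] at hf' ⊢
        exact hf'
      obtain ⟨t, rfl⟩ : f ∈ Set.range (φ.left.app U) := by rw [(hsec U).2]; exact hfi
      exact ⟨_, hcomm t⟩

theorem isGeomQuot_openImmersion (h : GIT.IsGeomQuot a φ) {pr : X' ⟶ X} {φ' : X' ⟶ Y'} {g : Y' ⟶ Y}
    (hpb : IsPullback pr φ' φ g) [IsOpenImmersion g.left]
    {a' : AlgGrp.Action G X'} (ha : a'.act ≫ pr = (G ◁ pr) ≫ a.act) (hi' : GIT.IsInvariant a' φ') :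
    GIT.IsGeomQuot a' φ' where
  inv := hi'
  surj := by
    intro y
    obtain ⟨x, hx⟩ := h.surj (g.left y)
    obtain ⟨z, -, hz⟩ := Scheme.Pullback.exists_preimage_pullback (f := φ.left) (g := g.left) x y hx
    have sq : IsPullback pr.left φ'.left φ.left g.left := hpb.map (Over.forget S)
    exact ⟨sq.isoPullback.inv z, by rw [← Scheme.Hom.comp_apply, sq.isoPullback_inv_snd]; exact hz⟩
  orbit := orbit_baseChange h.inv h.orbit hpb ha hi'
  subm := MorphismProperty.of_isPullback (P := MorphismProperty.universally (topologically @IsQuotientMap))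
    (hpb.map (Over.forget S)) h.subm
  sections := sections_openImmersion h.inv h.sections hpb ha hi'

end Groth.Agent.H20GQ
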