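import Groth.Agent.H20GQ.Quot
import Mathlib.AlgebraicGeometry.Morphisms.Separated
import Mathlib.AlgebraicGeometry.Morphisms.ClosedImmersion

/-!
Orbits of geometric quotients.
-/

set_option autoImplicit false
set_option backward.isDefEq.respectTransparency false

universe u

open CategoryTheory MonoidalCategory CartesianMonoidalCategory MonObj AlgebraicGeometry Topology
open Limits (pullback)

namespace Groth.Agent.H20GQ

variable {S : Scheme.{u}} {G X Y T : Over S} [GrpObj G] {a : AlgGrp.Action G X} {φ : X ⟶ Y}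

theorem range_psi (hi : GIT.IsInvariant a φ) (ho : Function.Surjective (GIT.PsiY a φ hi).base) (f : T ⟶ X) :
    Set.range (GIT.psi a f).left.base = (φ ▷ T).left.base ⁻¹' Set.range (lift (f ≫ φ) (𝟙 T)).left.base := by
  apply subset_antisymm
  · rintro _ ⟨w, rfl⟩
    refine ⟨(snd G T).left w, ?_⟩
    have e : GIT.psi a f ≫ (φ ▷ T) = snd G T ≫ lift (f ≫ φ) (𝟙 T) := by
      apply CartesianMonoidalCategory.hom_ext
      · simp only [GIT.psi, Category.assoc, whiskerRight_fst, lift_fst, lift_fst_assoc]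
        rw [hi, whiskerLeft_snd_assoc]
      · simp [GIT.psi]
    exact (congrArg (fun m : G ⊗ T ⟶ Y ⊗ T => m.left w) e).symm
  · rintro z ⟨t₀, ht₀⟩
    let t := lift (f ≫ φ) (𝟙 T)
    obtain ⟨q, hq1, -⟩ := Scheme.Pullback.exists_preimage_pullback (f := (φ ▷ T).left) (g := t.left) z t₀ ht₀.symm
    let Q := pullback (φ ▷ T).left t.left
    let Q' : Over S := Over.mk (Limits.pullback.snd (φ ▷ T).left t.left ≫ T.hom)
    let qT : Q' ⟶ T := Over.homMk (Limits.pullback.snd (φ ▷ T).left t.left) rfl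
    let qXT : Q' ⟶ X ⊗ T := Over.homMk (Limits.pullback.fst (φ ▷ T).left t.left) (by
      change _ = Limits.pullback.snd (φ ▷ T).left t.left ≫ T.hom
      rw [← Over.w (φ ▷ T), Limits.pullback.condition_assoc]
      congr 1
      exact Over.w t)
    have hc : qXT ≫ (φ ▷ T) = qT ≫ t := Over.OverMorphism.ext Limits.pullback.condition
    have hcY := congrArg (· ≫ fst Y T) hc
    have hcT := congrArg (· ≫ snd Y T) hc
    simp only [Category.assoc, whiskerRight_fst, whiskerRight_snd, t, lift_fst, lift_snd, Category.comp_id] at hcY hcT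
    let qx : Q' ⟶ X := qXT ≫ fst X T
    let qf : Q' ⟶ X := qT ≫ f
    have hxy : qx.left ≫ φ.left = qf.left ≫ φ.left := by
      rw [← Over.comp_left, ← Over.comp_left]
      exact congrArg (fun m : Q' ⟶ Y => m.left) (show qx ≫ φ = qf ≫ φ by simpa [qx, qf] using hcY)
    let v : Q ⟶ pullback φ.left φ.left := Limits.pullback.lift qx.left qf.left hxy
    obtain ⟨w, hw⟩ := ho (v q)
    obtain ⟨r, hr1, -⟩ := Scheme.Pullback.exists_preimage_pullback (f := v) (g := GIT.PsiY a φ hi) q w hw.symm
    let R' : Over S := Over.mk (Limits.pullback.fst v (GIT.PsiY a φ hi) ≫ Q'.hom)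
    let rQ : R' ⟶ Q' := Over.homMk (Limits.pullback.fst v (GIT.PsiY a φ hi)) rfl
    let rGX : R' ⟶ G ⊗ X := Over.homMk (Limits.pullback.snd v (GIT.PsiY a φ hi)) (by
      change _ = Limits.pullback.fst v (GIT.PsiY a φ hi) ≫ Q'.hom
      have h2 := congrArg (· ≫ Limits.pullback.snd φ.left φ.left ≫ X.hom)
        (Limits.pullback.condition (f := v) (g := GIT.PsiY a φ hi))
      simp only [Category.assoc, v, GIT.PsiY, Limits.pullback.lift_snd_assoc, Over.w] at h2
      exact h2.symm)
    have e1 : rQ ≫ qx = rGX ≫ a.act := by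
      have h2 := congrArg (· ≫ Limits.pullback.fst φ.left φ.left)
        (Limits.pullback.condition (f := v) (g := GIT.PsiY a φ hi))
      simp only [Category.assoc, v, GIT.PsiY, Limits.pullback.lift_fst] at h2
      exact Over.OverMorphism.ext h2
    have e2 : rQ ≫ qf = rGX ≫ snd G X := by
      have h2 := congrArg (· ≫ Limits.pullback.snd φ.left φ.left)
        (Limits.pullback.condition (f := v) (g := GIT.PsiY a φ hi))
      simp only [Category.assoc, v, GIT.PsiY, Limits.pullback.lift_snd] at h2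
      exact Over.OverMorphism.ext h2
    have key : rQ ≫ qXT = lift (rGX ≫ fst G X) (rQ ≫ qT) ≫ GIT.psi a f := by
      have e3 : lift (rGX ≫ fst G X) (rQ ≫ qT) ≫ (G ◁ f) = rGX := by
        apply CartesianMonoidalCategory.hom_ext
        · simp
        · simpa [qf] using e2
      apply CartesianMonoidalCategory.hom_ext
      · simp only [GIT.psi, Category.assoc, lift_fst]
        rw [reassoc_of% e3, ← e1]
      · simp only [GIT.psi, Category.assoc, lift_snd]
        rw [hcT]
    refine ⟨(lift (rGX ≫ fst G X) (rQ ≫ qT)).left r, ?_⟩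
    refine (congrArg (fun m : R' ⟶ X ⊗ T => m.left r) key).symm.trans ?_
    show qXT.left (rQ.left r) = z
    exact (congrArg (fun p => qXT.left p) hr1).trans hq1

theorem isClosed_range_of_section {W : Scheme.{u}} {Ω : Type u} [Field Ω] (g : W ⟶ Spec (CommRingCat.of Ω))
    (s : Spec (CommRingCat.of Ω) ⟶ W) (h : s ≫ g = 𝟙 _) : IsClosed (Set.range s.base) := by
  rw [← isOpen_compl_iff, isOpen_iff_forall_mem_open]
  intro w hw
  obtain ⟨V, hV, hwV, -⟩ := exists_isAffineOpen_mem_and_subset (Set.mem_univ w) (U := (⊤ : W.Opens))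
  by_cases hs : ∀ p, s p ∉ V
  · exact ⟨V, fun x hx ⟨p, hp⟩ => hs p (hp ▸ hx), V.2, hwV⟩
  · push Not at hs
    obtain ⟨p₀, hp₀⟩ := hs
    have hsV : Set.range s ⊆ Set.range hV.fromSpec := by
      rintro _ ⟨p, rfl⟩
      rw [hV.range_fromSpec, Subsingleton.elim p p₀]
      exact hp₀
    let s' := IsOpenImmersion.lift hV.fromSpec s hsV
    have h1 : s' ≫ hV.fromSpec ≫ g = 𝟙 _ := by rw [IsOpenImmersion.lift_fac_assoc, h]
    have h2 : Spec.preimage (hV.fromSpec ≫ g) ≫ Spec.preimage s' = 𝟙 _ := by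
      apply Spec.map_injective
      rw [Spec.map_comp, Spec.map_preimage, Spec.map_preimage, h1]
      exact (Spec.map_id _).symm
    haveI : IsClosedImmersion s' := by
      rw [← Spec.map_preimage s']
      exact IsClosedImmersion.spec_of_surjective _ fun x => ⟨_, ConcreteCategory.congr_hom h2 x⟩
    have hc : IsClosed (Set.range s') := s'.isClosedEmbedding.isClosed_range
    refine ⟨hV.fromSpec '' (Set.range s')ᶜ, ?_, hV.fromSpec.isOpenEmbedding.isOpenMap _ hc.isOpen_compl, ?_⟩
    · rintro _ ⟨x, hx, rfl⟩ ⟨p, hp⟩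
      rw [← IsOpenImmersion.lift_fac hV.fromSpec s hsV] at hp
      exact hx ⟨p, hV.fromSpec.isOpenEmbedding.injective hp⟩
    · obtain ⟨x, rfl⟩ : w ∈ Set.range hV.fromSpec := by rw [hV.range_fromSpec]; exact hwV
      refine ⟨x, fun ⟨p, hp⟩ => hw ⟨p, ?_⟩, rfl⟩
      rw [← IsOpenImmersion.lift_fac hV.fromSpec s hsV, ← hp]
      rfl

theorem isClosedAction_of_orbit (hi : GIT.IsInvariant a φ) (ho : Function.Surjective (GIT.PsiY a φ hi).base) :
    GIT.IsClosedAction a := by
  intro Ω _ _ T e f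
  rw [range_psi hi ho f]
  refine IsClosed.preimage (φ ▷ T).left.continuous ?_
  let t := lift (f ≫ φ) (𝟙 T)
  have hs : Set.range (e.inv ≫ t.left).base = Set.range t.left.base := by
    refine subset_antisymm (fun _ ⟨p, hp⟩ => ⟨e.inv p, hp⟩) fun _ ⟨p, hp⟩ => ⟨e.hom p, ?_⟩
    rw [← hp]
    show t.left ((e.hom ≫ e.inv) p) = t.left p
    rw [e.hom_inv_id]
    rfl
  rw [← hs]
  refine isClosed_range_of_section ((snd Y T).left ≫ e.hom) _ ?_
  rw [Category.assoc, ← Category.assoc t.left, ← Over.comp_left, lift_snd, Over.id_left, Category.id_comp, e.inv_hom_id]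

theorem isPullback_fst_snd (Y T : Over S) : IsPullback (fst Y T) (snd Y T) (toUnit Y) (toUnit T) := by
  have h := IsPullback.of_is_product (C := Over S) (tensorProductIsBinaryProduct Y T) isTerminalTensorUnit
  have e1 : isTerminalTensorUnit.from Y = toUnit Y := toUnit_unique _ _
  have e2 : isTerminalTensorUnit.from T = toUnit T := toUnit_unique _ _
  simpa [e1, e2] using h

theorem isPullback_whiskerRight (φ : X ⟶ Y) (C : Over S) :
    IsPullback (fst X C).left (φ ▷ C).left φ.left (fst Y C).left := by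
  have h : IsPullback (φ ▷ C) (fst X C) (fst Y C) φ :=
    IsPullback.of_right (by simpa using (isPullback_fst_snd X C).flip) (by simp) (isPullback_fst_snd Y C).flip
  exact (h.map (Over.forget S)).flip

theorem isPullback_whiskerLeft (φ : X ⟶ Y) (C : Over S) :
    IsPullback (snd C X).left (C ◁ φ).left φ.left (snd C Y).left := by
  have h : IsPullback (C ◁ φ) (snd C X) (snd C Y) φ :=
    IsPullback.of_right (by simpa using isPullback_fst_snd C X) (by simp) (isPullback_fst_snd C Y)
  exact (h.map (Over.forget S)).flip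

theorem range_graph (φ : X ⟶ Y) :
    Set.range (lift φ (𝟙 X)).left.base = (Y ◁ φ).left.base ⁻¹' Set.range (lift (𝟙 Y) (𝟙 Y)).left.base := by
  apply subset_antisymm
  · rintro _ ⟨x, rfl⟩
    refine ⟨φ.left x, ?_⟩
    have e : lift φ (𝟙 X) ≫ (Y ◁ φ) = φ ≫ lift (𝟙 Y) (𝟙 Y) := by
      apply CartesianMonoidalCategory.hom_ext <;> simp
    exact (congrArg (fun m : X ⟶ Y ⊗ Y => m.left x) e).symm
  · rintro w ⟨y, hy⟩
    let Δ := lift (𝟙 Y) (𝟙 Y)
    obtain ⟨q, hq1, -⟩ := Scheme.Pullback.exists_preimage_pullback (f := (Y ◁ φ).left) (g := Δ.left) w y hy.symm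
    let Q' : Over S := Over.mk (Limits.pullback.fst (Y ◁ φ).left Δ.left ≫ (Y ⊗ X).hom)
    let q1 : Q' ⟶ Y ⊗ X := Over.homMk (Limits.pullback.fst (Y ◁ φ).left Δ.left) rfl
    let q2 : Q' ⟶ Y := Over.homMk (Limits.pullback.snd (Y ◁ φ).left Δ.left) (by
      change _ = Limits.pullback.fst (Y ◁ φ).left Δ.left ≫ (Y ⊗ X).hom
      rw [← Over.w (Y ◁ φ), Limits.pullback.condition_assoc]
      congr 1
      exact (Over.w Δ).symm)
    have hc : q1 ≫ (Y ◁ φ) = q2 ≫ Δ := Over.OverMorphism.ext Limits.pullback.condition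
    have hc1 := congrArg (· ≫ fst Y Y) hc
    have hc2 := congrArg (· ≫ snd Y Y) hc
    simp only [Category.assoc, whiskerLeft_fst, whiskerLeft_snd, Δ, lift_fst, lift_snd, Category.comp_id] at hc1 hc2
    have key : q1 = (q1 ≫ snd Y X) ≫ lift φ (𝟙 X) := by
      apply CartesianMonoidalCategory.hom_ext
      · simp [hc1, hc2]
      · simp
    refine ⟨(q1 ≫ snd Y X).left q, ?_⟩
    exact (congrArg (fun m : Q' ⟶ Y ⊗ X => m.left q) key).symm.trans hq1

theorem isSeparated_iff (hi : GIT.IsInvariant a φ) (ho : Function.Surjective (GIT.PsiY a φ hi).base)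
    (hs : GIT.IsUnivSubmersive φ.left) :
    IsSeparated Y.hom ↔ IsClosed (Set.range (GIT.psi a (𝟙 X)).left.base) := by
  rw [range_psi hi ho, Category.id_comp, range_graph]
  have h1 : IsQuotientMap (φ ▷ X).left.base := hs _ _ _ (isPullback_whiskerRight φ X).flip
  have h2 : IsQuotientMap (Y ◁ φ).left.base := hs _ _ _ (isPullback_whiskerLeft φ Y).flip
  rw [h1.isClosed_preimage, h2.isClosed_preimage,
    show (lift (𝟙 Y) (𝟙 Y)).left = Limits.pullback.diagonal Y.hom from Limits.pullback.hom_ext (by simp) (by simp)]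
  constructor
  · intro h
    exact (Limits.pullback.diagonal Y.hom).isClosedEmbedding.isClosed_range
  · intro h
    exact ⟨IsClosedImmersion.of_isPreimmersion _ h⟩

end Groth.Agent.H20GQ
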