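import Mathlib.AlgebraicGeometry.OpenImmersion

/-!
Descending morphisms along a submersion with injective sections.
-/

set_option autoImplicit false
set_option backward.isDefEq.respectTransparency false

universe u

open CategoryTheory AlgebraicGeometry TopologicalSpace Opposite Topology

namespace Groth.Agent.H20GQ

variable {X Y Z : Scheme.{u}} {φ : X ⟶ Y}

theorem hom_ext (hs : Function.Surjective φ.base) (happ : ∀ U, Function.Injective (φ.app U)) {χ χ' : Y ⟶ Z}
    (h : φ ≫ χ = φ ≫ χ') : χ = χ' := by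
  have hb : χ.base = χ'.base := by
    refine TopCat.hom_ext (ContinuousMap.ext fun y => ?_)
    obtain ⟨x, rfl⟩ := hs y
    exact congrArg (fun m : X ⟶ Z => m x) h
  refine Scheme.Hom.ext hb fun V => ?_
  ext s
  apply happ
  rw [χ.app_eq_appLE, Scheme.Hom.appLE_map, χ'.app_eq_appLE, φ.app_eq_appLE, ← CommRingCat.comp_apply,
    ← CommRingCat.comp_apply, Scheme.Hom.appLE_comp_appLE, Scheme.Hom.appLE_comp_appLE]
  congr 3

theorem exists_desc (hq : IsQuotientMap φ.base) (happ : ∀ U, Function.Injective (φ.app U)) (ψ : X ⟶ Z)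
    (hfib : ∀ x x', φ x = φ x' → ψ x = ψ x')
    (hrange : ∀ (V : Z.Opens) (U : Y.Opens) (e : φ ⁻¹ᵁ U ≤ ψ ⁻¹ᵁ V) (s : Γ(Z, V)),
      ψ.appLE V (φ ⁻¹ᵁ U) e s ∈ Set.range (φ.app U)) :
    ∃ χ : Y ⟶ Z, φ ≫ χ = ψ := by
  choose σ hσ using hq.surjective
  let b : Y → Z := fun y => ψ (σ y)
  have hb : ∀ x, b (φ x) = ψ x := fun x => hfib _ _ (hσ _)
  have hcont : Continuous b := hq.continuous_iff.2 (by
    rw [show b ∘ φ.base = ψ.base from funext hb]
    exact ψ.continuous)
  let χb : (Y : TopCat) ⟶ (Z : TopCat) := TopCat.ofHom ⟨b, hcont⟩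
  have hle : ∀ V : Z.Opens, φ ⁻¹ᵁ (Opens.map χb).obj V ≤ ψ ⁻¹ᵁ V := fun V x hx => by
    change ψ x ∈ V
    rw [← hb]
    exact hx
  choose k hk using fun (V : Z.Opens) (s : Γ(Z, V)) => hrange V ((Opens.map χb).obj V) (hle V) s
  let c : Z.presheaf ⟶ χb _* Y.presheaf :=
    { app := fun V => CommRingCat.ofHom
        { toFun := k V.unop
          map_one' := happ _ (by rw [hk, map_one, map_one])
          map_mul' := fun a a' => happ _ (by rw [hk, map_mul, map_mul, hk, hk])
          map_zero' := happ _ (by rw [hk, map_zero, map_zero])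
          map_add' := fun a a' => happ _ (by rw [hk, map_add, map_add, hk, hk]) }
      naturality := fun V V' i => by
        ext s
        apply happ
        change φ.app _ (k _ (Z.presheaf.map i s)) = φ.app _ (Y.presheaf.map _ (k _ s))
        have hn := ConcreteCategory.congr_hom (φ.naturality ((Opens.map χb).map i.unop).op) (k V.unop s)
        simp only [CommRingCat.comp_apply] at hn
        rw [hk]
        refine Eq.trans ?_ hn.symm
        rw [hk, ← CommRingCat.comp_apply, ← CommRingCat.comp_apply, Scheme.Hom.map_appLE, Scheme.Hom.appLE_map] }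
  let P : PresheafedSpace.Hom Y.toPresheafedSpace Z.toPresheafedSpace := ⟨χb, c⟩
  have hloc : ∀ y, IsLocalHom (P.stalkMap y).hom := by
    intro y
    refine ⟨fun t ht => ?_⟩
    obtain ⟨V, hV, a, rfl⟩ := Z.presheaf.exists_germ_eq t
    erw [PresheafedSpace.stalkMap_germ_apply P V y hV a] at ht
    obtain ⟨x, hx⟩ := hq.surjective y
    have h1 : x ∈ φ ⁻¹ᵁ Y.basicOpen (k V a) := by
      show φ x ∈ Y.basicOpen (k V a)
      rw [show φ x = y from hx, Y.mem_basicOpen (k V a) y (by exact hV)]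
      exact ht
    rw [Scheme.preimage_basicOpen, hk, Scheme.basicOpen_appLE] at h1
    have h2 : ψ x ∈ Z.basicOpen a := h1.2
    have hbx : ψ x = χb y := by rw [← hb, show φ x = y from hx]; rfl
    rw [hbx] at h2
    exact (Z.mem_basicOpen a (χb y) hV).1 h2
  let χ : Y ⟶ Z := ⟨⟨P, hloc⟩⟩
  refine ⟨χ, Scheme.Hom.ext (TopCat.hom_ext (ContinuousMap.ext hb)) fun V => ?_⟩
  ext s
  change X.presheaf.map _ (φ.app _ (k V s)) = ψ.app V s
  rw [hk, ← CommRingCat.comp_apply, Scheme.Hom.appLE_map, ← Scheme.Hom.app_eq_appLE]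

end Groth.Agent.H20GQ
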