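import Mathlib.AlgebraicGeometry.Morphisms.Flat
import Mathlib.Algebra.Category.Ring.Constructions
import Mathlib.RingTheory.Flat.Basic

/-!
Injectivity of pullback of sections is stable under flat base change.
-/

set_option autoImplicit false
set_option backward.isDefEq.respectTransparency false

universe u

open CategoryTheory AlgebraicGeometry TensorProduct

namespace Groth.Agent.H20GQ

theorem inr_injective {R A B : CommRingCat.{u}} (a : R ⟶ A) (b : R ⟶ B) (ha : Function.Injective a)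
    (hb : b.hom.Flat) : Function.Injective (Limits.pushout.inr a b) := by
  algebraize [a.hom, b.hom]
  have hb' : Module.Flat R B := hb
  have h := CommRingCat.isPushout_tensorProduct R A B
  intro x y hxy
  have e : Limits.pushout.inr a b ≫ h.isoPushout.inv = CommRingCat.ofHom Algebra.TensorProduct.includeRight.toRingHom :=
    h.inr_isoPushout_inv
  have h1 : Algebra.TensorProduct.includeRight (R := R) (A := A) (B := B) x = Algebra.TensorProduct.includeRight y :=
    (ConcreteCategory.congr_hom e x).symm.trans ((congrArg h.isoPushout.inv hxy).trans (ConcreteCategory.congr_hom e y))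
  exact Algebra.TensorProduct.includeRight_injective (R := R) (A := A) (B := B) ha h1

theorem app_injective_of_flat {P X S T : Scheme.{u}} {g : P ⟶ X} {iY : P ⟶ T} {iX : X ⟶ S} {f : T ⟶ S}
    (H : IsPullback g iY iX f) [Flat f] [QuasiCompact iX] (hinj : ∀ U, Function.Injective (iX.app U))
    (W : T.Opens) : Function.Injective (iY.app W) := by
  rw [injective_iff_map_eq_zero]
  intro t ht
  have hloc : ∀ w : W, ∃ (V : T.Opens) (U : S.Opens) (h : V ≤ W) (_ : V ≤ f ⁻¹ᵁ U),
      IsAffineOpen V ∧ IsAffineOpen U ∧ w.1 ∈ V := by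
    intro w
    obtain ⟨U, hU, hwU, -⟩ := exists_isAffineOpen_mem_and_subset (Set.mem_univ (f w.1)) (U := (⊤ : S.Opens))
    obtain ⟨V, hV, hwV, hVsub⟩ := exists_isAffineOpen_mem_and_subset (U := W ⊓ f ⁻¹ᵁ U) (x := w.1) ⟨w.2, hwU⟩
    exact ⟨V, U, fun x hx => (hVsub hx).1, fun x hx => (hVsub hx).2, hV, hU, hwV⟩
  choose V U hVW hVU hV hU hwV using hloc
  refine TopCat.Sheaf.eq_of_locally_eq' T.sheaf V W (fun w => homOfLE (hVW w))
    (fun x hx => TopologicalSpace.Opens.mem_iSup.2 ⟨⟨x, hx⟩, hwV _⟩) t 0 fun w => ?_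
  rw [map_zero]
  change T.presheaf.map (homOfLE (hVW w)).op t = 0
  have hflat := f.flat_appLE (hU w) (hV w) (hVU w)
  have hcpt : IsCompact (X := X) (iX ⁻¹ᵁ U w) := iX.isCompact_preimage (hU w).isCompact
  have hmono := mono_pushoutSection_of_isCompact_of_flat_right H (hVU w) (le_refl (iX ⁻¹ᵁ U w)) rfl (hU w) (hV w) hcpt
  have h1 : Function.Injective (iX.appLE (U w) (iX ⁻¹ᵁ U w) le_rfl) := by
    rw [← iX.app_eq_appLE]; exact hinj _
  have h2 := inr_injective _ (f.appLE (U w) (V w) (hVU w)) h1 hflat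
  apply h2
  rw [map_zero]
  apply (ConcreteCategory.injective_of_mono_of_preservesPullback
    (pushoutSection H (hVU w) (le_refl (iX ⁻¹ᵁ U w)) rfl))
  rw [map_zero, ← CommRingCat.comp_apply, Limits.pushout.inr_desc, ← CommRingCat.comp_apply, Scheme.Hom.map_appLE]
  have hle : g ⁻¹ᵁ (iX ⁻¹ᵁ U w) ⊓ iY ⁻¹ᵁ V w ≤ iY ⁻¹ᵁ W := inf_le_right.trans (iY.preimage_mono (hVW w))
  have e : iY.appLE W (g ⁻¹ᵁ (iX ⁻¹ᵁ U w) ⊓ iY ⁻¹ᵁ V w) hle = iY.app W ≫ P.presheaf.map (homOfLE hle).op := rfl
  rw [e, CommRingCat.comp_apply, ht, map_zero]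

end Groth.Agent.H20GQ
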