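import Groth.Agent.H20GQ.OpenBC
import Groth.Agent.H20GQ.FlatInj
import Mathlib.AlgebraicGeometry.Sites.Fpqc

/-!
Descent of geometric quotients along faithfully flat quasi-compact morphisms.
-/

set_option autoImplicit false
set_option backward.isDefEq.respectTransparency false

universe u

open CategoryTheory MonoidalCategory CartesianMonoidalCategory MonObj AlgebraicGeometry Topology

namespace Groth.Agent.H20GQ

variable {S : Scheme.{u}} {G X Y X' Y' : Over S} [GrpObj G] {a : AlgGrp.Action G X} {φ : X ⟶ Y}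
  {pr : X' ⟶ X} {φ' : X' ⟶ Y'} {α : Y' ⟶ Y} {a' : AlgGrp.Action G X'}

theorem orbit_descent (hi : GIT.IsInvariant a φ) (hpb : IsPullback pr φ' φ α) [Surjective α.left]
    (ha : a'.act ≫ pr = (G ◁ pr) ≫ a.act) (hi' : GIT.IsInvariant a' φ')
    (ho : Function.Surjective (GIT.PsiY a' φ' hi').base) : Function.Surjective (GIT.PsiY a φ hi).base := by
  intro z
  have sq : IsPullback pr.left φ'.left φ.left α.left := hpb.map (Over.forget S)
  let p1 := Limits.pullback.fst φ.left φ.left
  let p2 := Limits.pullback.snd φ.left φ.left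
  obtain ⟨y, hy⟩ := α.left.surjective ((p1 ≫ φ.left) z)
  obtain ⟨r, hr, -⟩ := Scheme.Pullback.exists_preimage_pullback (f := p1 ≫ φ.left) (g := α.left) z y hy.symm
  let q1 := Limits.pullback.fst (p1 ≫ φ.left) α.left
  let q2 := Limits.pullback.snd (p1 ≫ φ.left) α.left
  let x1 := sq.lift (q1 ≫ p1) q2 (by rw [Category.assoc]; exact Limits.pullback.condition)
  let x2 := sq.lift (q1 ≫ p2) q2 (by
    rw [Category.assoc, show p2 ≫ φ.left = p1 ≫ φ.left from Limits.pullback.condition.symm]
    exact Limits.pullback.condition)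
  let l : _ ⟶ Limits.pullback φ'.left φ'.left := Limits.pullback.lift x1 x2 (by simp [x1, x2])
  let v : Limits.pullback φ'.left φ'.left ⟶ Limits.pullback φ.left φ.left :=
    Limits.pullback.lift (Limits.pullback.fst _ _ ≫ pr.left) (Limits.pullback.snd _ _ ≫ pr.left)
      (by rw [Category.assoc, Category.assoc, sq.w, Limits.pullback.condition_assoc])
  obtain ⟨w, hw⟩ := ho (l r)
  refine ⟨(G ◁ pr).left w, ?_⟩
  have e1 : (G ◁ pr).left ≫ GIT.PsiY a φ hi = GIT.PsiY a' φ' hi' ≫ v := by
    apply Limits.pullback.hom_ext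
    · simp only [GIT.PsiY, v, Category.assoc, Limits.pullback.lift_fst, Limits.pullback.lift_fst_assoc]
      rw [← Over.comp_left, ← Over.comp_left, ha]
    · simp only [GIT.PsiY, v, Category.assoc, Limits.pullback.lift_snd, Limits.pullback.lift_snd_assoc]
      rw [← Over.comp_left, ← Over.comp_left, whiskerLeft_snd]
  have e2 : l ≫ v = q1 := by
    apply Limits.pullback.hom_ext <;>
      simp [l, v, x1, x2, p1, p2]
  rw [← Scheme.Hom.comp_apply, e1, Scheme.Hom.comp_apply, hw, ← Scheme.Hom.comp_apply, e2]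
  exact hr

theorem submersive_descent (hpb : IsPullback pr φ' φ α) [Flat α.left] [Surjective α.left] [QuasiCompact α.left]
    (hs : GIT.IsUnivSubmersive φ'.left) : GIT.IsUnivSubmersive φ.left := by
  intro X₁ Y₁ i₁ i₂ f' sq1
  have sq : IsPullback pr.left φ'.left φ.left α.left := hpb.map (Over.forget S)
  let b := Limits.pullback.fst i₂ α.left
  let u := Limits.pullback.snd i₂ α.left
  have h1 : IsQuotientMap (Limits.pullback.snd φ'.left u).base :=
    hs _ _ _ (IsPullback.of_hasPullback φ'.left u).flip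
  have h2 : IsQuotientMap b.base := Flat.isQuotientMap_of_surjective b
  let t := sq1.flip.lift (Limits.pullback.fst φ'.left u ≫ pr.left) (Limits.pullback.snd φ'.left u ≫ b) (by
    rw [Category.assoc, Category.assoc, sq.w, Limits.pullback.condition_assoc]
    simp only [b, u]
    rw [Limits.pullback.condition])
  have e : t ≫ f' = Limits.pullback.snd φ'.left u ≫ b := sq1.flip.lift_snd _ _ _
  refine IsQuotientMap.of_comp t.continuous f'.continuous ?_
  have := h2.comp h1
  rw [← TopCat.coe_comp, ← Scheme.Hom.comp_base, ← e] at this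
  exact this

/-- sections descend -/
theorem isCatQuot_descent (hi : GIT.IsInvariant a φ) (hpb : IsPullback pr φ' φ α) [Flat α.left] [Surjective α.left]
    [QuasiCompact α.left] (ha : a'.act ≫ pr = (G ◁ pr) ≫ a.act) (h' : GIT.IsGeomQuot a' φ')
    (hinj : ∀ {P T : Scheme.{u}} (g : P ⟶ X'.left) (iY : P ⟶ T) (f : T ⟶ Y'.left), IsPullback g iY φ'.left f →
      Flat f → ∀ U, Function.Injective (iY.app U)) : GIT.IsCatQuot a φ := by
  refine ⟨hi, fun Z ψ hψ => ?_⟩
  have sq : IsPullback pr.left φ'.left φ.left α.left := hpb.map (Over.forget S)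
  have hψ' : GIT.IsInvariant a' (pr ≫ ψ) := by
    show a'.act ≫ pr ≫ ψ = snd G X' ≫ pr ≫ ψ
    rw [reassoc_of% ha, hψ, whiskerLeft_snd_assoc]
  obtain ⟨χ', hχ', huniq⟩ := (isCatQuot_of_isGeomQuot h').2 Z _ hψ'
  have hχl : φ'.left ≫ χ'.left = pr.left ≫ ψ.left := congrArg (·.left) hχ'
  haveI : Surjective φ'.left := ⟨h'.surj⟩
  have hd : ∀ {W : Scheme.{u}} (g₁ g₂ : W ⟶ Y'.left), g₁ ≫ α.left = g₂ ≫ α.left → g₁ ≫ χ'.left = g₂ ≫ χ'.left := by
    intro W g₁ g₂ hg
    let p₁ := Limits.pullback.fst α.left α.left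
    let p₂ := Limits.pullback.snd α.left α.left
    suffices key : p₁ ≫ χ'.left = p₂ ≫ χ'.left by
      rw [← Limits.pullback.lift_fst g₁ g₂ hg, Category.assoc, key, ← Category.assoc, Limits.pullback.lift_snd]
    have hsurj : Function.Surjective (Limits.pullback.snd φ'.left p₁).base :=
      (Limits.pullback.snd φ'.left p₁).surjective
    refine hom_ext hsurj (hinj _ _ p₁ (IsPullback.of_hasPullback φ'.left p₁) inferInstance) ?_
    let t := sq.lift (Limits.pullback.fst φ'.left p₁ ≫ pr.left) (Limits.pullback.snd φ'.left p₁ ≫ p₂) (by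
      rw [Category.assoc, Category.assoc, sq.w, Limits.pullback.condition_assoc]
      simp only [p₁, p₂]
      rw [Limits.pullback.condition])
    rw [← Limits.pullback.condition_assoc, hχl, ← Category.assoc (Limits.pullback.snd φ'.left p₁) p₂,
      ← sq.lift_snd (Limits.pullback.fst φ'.left p₁ ≫ pr.left) (Limits.pullback.snd φ'.left p₁ ≫ p₂) (by
        rw [Category.assoc, Category.assoc, sq.w, Limits.pullback.condition_assoc]
        simp only [p₁, p₂]
        rw [Limits.pullback.condition]), Category.assoc, hχl, ← Category.assoc, ← Category.assoc, sq.lift_fst]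
  let χ := EffectiveEpi.desc α.left χ'.left (fun g₁ g₂ hg => hd g₁ g₂ hg)
  have hfac : α.left ≫ χ = χ'.left := EffectiveEpi.fac _ _ _
  have hw : χ ≫ Z.hom = Y.hom := by
    rw [← cancel_epi α.left, reassoc_of% hfac, Over.w, Over.w]
  haveI : Flat pr.left := MorphismProperty.of_isPullback (P := @Flat) sq.flip ‹_›
  haveI : Surjective pr.left := MorphismProperty.of_isPullback (P := @Surjective) sq.flip ‹_›
  haveI : QuasiCompact pr.left := MorphismProperty.of_isPullback (P := @QuasiCompact) sq.flip ‹_›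
  refine ⟨Over.homMk χ hw, Over.OverMorphism.ext ?_, fun χ₂ hχ₂ => Over.OverMorphism.ext ?_⟩
  · rw [← cancel_epi pr.left, Over.comp_left]
    show pr.left ≫ φ.left ≫ χ = _
    rw [sq.w_assoc, hfac, hχl]
  · rw [← cancel_epi α.left]
    refine Eq.trans ?_ hfac.symm
    have h2 : φ' ≫ α ≫ χ₂ = pr ≫ ψ := by rw [← Category.assoc, ← hpb.w, Category.assoc, hχ₂]
    exact congrArg (·.left) (huniq (α ≫ χ₂) h2)

theorem isGeomQuot_descent (hi : GIT.IsInvariant a φ) (hpb : IsPullback pr φ' φ α) [Flat α.left] [Surjective α.left]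
    [QuasiCompact α.left] (ha : a'.act ≫ pr = (G ◁ pr) ≫ a.act) (h' : GIT.IsGeomQuot a' φ')
    (hinj : ∀ {P T : Scheme.{u}} (g : P ⟶ X'.left) (iY : P ⟶ T) (f : T ⟶ Y'.left), IsPullback g iY φ'.left f →
      Flat f → ∀ U, Function.Injective (iY.app U)) : GIT.IsGeomQuot a φ where
  inv := hi
  surj := by
    intro y
    obtain ⟨y', rfl⟩ := α.left.surjective y
    obtain ⟨x', rfl⟩ := h'.surj y'
    exact ⟨pr.left x', congrArg (fun m : X'.left ⟶ Y.left => m x') (congrArg (·.left) hpb.w)⟩
  orbit := orbit_descent hi hpb ha h'.inv h'.orbit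
  subm := submersive_descent hpb h'.subm
  sections := by
    refine sections_of_restrict hi fun U X₁ Y₁ pr₁ φ₁ g₁ hpb₁ _ a₁ ha₁ hi₁ => ?_
    let Y₂ : Over S := Over.mk (Limits.pullback.snd g₁.left α.left ≫ Y'.hom)
    let β : Y₂ ⟶ Y₁ := Over.homMk (Limits.pullback.fst g₁.left α.left) (by
      change _ = Limits.pullback.snd g₁.left α.left ≫ Y'.hom
      rw [← Over.w g₁, ← Over.w α, Limits.pullback.condition_assoc])
    let u : Y₂ ⟶ Y' := Over.homMk (Limits.pullback.snd g₁.left α.left) rfl
    have hY : IsPullback β u g₁ α := isPullback_of_left (IsPullback.of_hasPullback g₁.left α.left)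
    let X₂ : Over S := Over.mk (Limits.pullback.snd φ₁.left β.left ≫ Y₂.hom)
    let pr₂ : X₂ ⟶ X₁ := Over.homMk (Limits.pullback.fst φ₁.left β.left) (by
      change _ = Limits.pullback.snd φ₁.left β.left ≫ Y₂.hom
      rw [← Over.w φ₁, ← Over.w β, Limits.pullback.condition_assoc])
    let φ₂ : X₂ ⟶ Y₂ := Over.homMk (Limits.pullback.snd φ₁.left β.left) rfl
    have hX : IsPullback pr₂ φ₂ φ₁ β := isPullback_of_left (IsPullback.of_hasPullback φ₁.left β.left)
    obtain ⟨a₂, ha₂, hi₂⟩ := exists_action hi₁ hX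
    have hbig : IsPullback (pr₂ ≫ pr₁) φ₂ φ (u ≫ α) := by
      rw [← hY.w]; exact hX.paste_horiz hpb₁
    let v : X₂ ⟶ X' := hpb.lift (pr₂ ≫ pr₁) (φ₂ ≫ u) (by rw [Category.assoc, hpb₁.w, ← Category.assoc, hX.w,
      Category.assoc, hY.w, Category.assoc])
    have hv : IsPullback v φ₂ φ' u := IsPullback.of_right (by rw [hpb.lift_fst]; exact hbig) (hpb.lift_snd _ _ _) hpb
    have hav : a₂.act ≫ v = (G ◁ v) ≫ a'.act := by
      apply hpb.hom_ext
      · rw [Category.assoc, hpb.lift_fst, ← Category.assoc, ha₂, Category.assoc, ha₁, ← whiskerLeft_comp_assoc,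
          Category.assoc, ha, ← whiskerLeft_comp_assoc, hpb.lift_fst]
      · rw [Category.assoc, hpb.lift_snd, ← Category.assoc, hi₂, Category.assoc, Category.assoc, h'.inv,
          whiskerLeft_snd_assoc, hpb.lift_snd]
    haveI : IsOpenImmersion u.left :=
      MorphismProperty.pullback_snd (P := @IsOpenImmersion) g₁.left α.left ‹_›
    haveI : Flat β.left := MorphismProperty.pullback_fst (P := @Flat) g₁.left α.left ‹_›
    haveI : Surjective β.left := MorphismProperty.pullback_fst (P := @Surjective) g₁.left α.left ‹_›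
    haveI : QuasiCompact β.left := MorphismProperty.pullback_fst (P := @QuasiCompact) g₁.left α.left ‹_›
    refine isCatQuot_descent hi₁ hX ha₂ (isGeomQuot_openImmersion h' hv hav hi₂) fun g iY f sq hf => ?_
    haveI := hf
    haveI : IsOpenImmersion u.left := inferInstance
    exact hinj _ iY (f ≫ u.left) (sq.paste_horiz (hv.map (Over.forget S))) inferInstance

end Groth.Agent.H20GQ
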