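import Groth.Agent.H20GQ.Descent

/-!
Descent of universal geometric quotients.
-/

set_option autoImplicit false
set_option backward.isDefEq.respectTransparency false

universe u

open CategoryTheory MonoidalCategory CartesianMonoidalCategory MonObj AlgebraicGeometry Topology

namespace Groth.Agent.H20GQ

variable {S : Scheme.{u}} {G X Y X' Y' : Over S} [GrpObj G] {a : AlgGrp.Action G X} {φ : X ⟶ Y}
  {pr : X' ⟶ X} {φ' : X' ⟶ Y'} {α : Y' ⟶ Y} {a' : AlgGrp.Action G X'}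

theorem inj_of_univ (h : GIT.IsUnivGeomQuot a φ) {P T : Scheme.{u}} (g : P ⟶ X.left) (iY : P ⟶ T)
    (f : T ⟶ Y.left) (sq : IsPullback g iY φ.left f) (U : T.Opens) : Function.Injective (iY.app U) := by
  let Y₁ : Over S := Over.mk (f ≫ Y.hom)
  let X₁ : Over S := Over.mk (g ≫ X.hom)
  let φ₁ : X₁ ⟶ Y₁ := Over.homMk iY (by
    change iY ≫ f ≫ Y.hom = g ≫ X.hom
    rw [← sq.w_assoc, Over.w φ])
  let g₁ : Y₁ ⟶ Y := Over.homMk f rfl
  let pr₁ : X₁ ⟶ X := Over.homMk g rfl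
  have hpb : IsPullback pr₁ φ₁ φ g₁ := isPullback_of_left sq
  obtain ⟨a₁, ha, hi⟩ := exists_action h.1.inv hpb
  exact ((h.2 pr₁ φ₁ g₁ trivial hpb a₁ ha hi).sections U).1

theorem isUnivGeomQuot_descent (hi : GIT.IsInvariant a φ) (hpb : IsPullback pr φ' φ α) [Flat α.left]
    [Surjective α.left] [QuasiCompact α.left] (ha : a'.act ≫ pr = (G ◁ pr) ≫ a.act)
    (h' : GIT.IsUnivGeomQuot a' φ') : GIT.IsUnivGeomQuot a φ := by
  refine ⟨isGeomQuot_descent hi hpb ha h'.1 fun g iY f sq _ U => inj_of_univ h' g iY f sq U, ?_⟩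
  intro X₁ Y₁ pr₁ φ₁ g₁ _ hpb₁ a₁ ha₁ hi₁
  let Y₂ : Over S := Over.mk (Limits.pullback.snd g₁.left α.left ≫ Y'.hom)
  let β : Y₂ ⟶ Y₁ := Over.homMk (Limits.pullback.fst g₁.left α.left) (by
    change _ = Limits.pullback.snd g₁.left α.left ≫ Y'.hom
    rw [← Over.w g₁, ← Over.w α, Limits.pullback.condition_assoc])
  let u : Y₂ ⟶ Y' := Over.homMk (Limits.pullback.snd g₁.left α.left) rfl
  have hY : IsPullback β u g₁ α := isPullback_of_left (IsPullback.of_hasPullback g₁.left α.left)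
  let X₂ : Over S := Over.mk (Limits.pullback.snd φ₁.left β.left ≫ Y₂.hom)
  let pr₂ : X₂ ⟶ X₁ := Over.homMk (Limits.pullback.fst φ₁.left β.left) (by
    change _ = Limits.pullback.snd φ₁.left β.left ≫ Y₂.hom
    rw [← Over.w φ₁, ← Over.w β, Limits.pullback.condition_assoc])
  let φ₂ : X₂ ⟶ Y₂ := Over.homMk (Limits.pullback.snd φ₁.left β.left) rfl
  have hX : IsPullback pr₂ φ₂ φ₁ β := isPullback_of_left (IsPullback.of_hasPullback φ₁.left β.left)
  obtain ⟨a₂, ha₂, hi₂⟩ := exists_action hi₁ hX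
  have hbig : IsPullback (pr₂ ≫ pr₁) φ₂ φ (u ≫ α) := by
    rw [← hY.w]; exact hX.paste_horiz hpb₁
  let v : X₂ ⟶ X' := hpb.lift (pr₂ ≫ pr₁) (φ₂ ≫ u) (by rw [Category.assoc, hpb₁.w, ← Category.assoc, hX.w,
    Category.assoc, hY.w, Category.assoc])
  have hv : IsPullback v φ₂ φ' u := IsPullback.of_right (by rw [hpb.lift_fst]; exact hbig) (hpb.lift_snd _ _ _) hpb
  have hav : a₂.act ≫ v = (G ◁ v) ≫ a'.act := by
    apply hpb.hom_ext
    · rw [Category.assoc, hpb.lift_fst, ← Category.assoc, ha₂, Category.assoc, ha₁, ← whiskerLeft_comp_assoc,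
        Category.assoc, ha, ← whiskerLeft_comp_assoc, hpb.lift_fst]
    · rw [Category.assoc, hpb.lift_snd, ← Category.assoc, hi₂, Category.assoc, Category.assoc, h'.1.inv,
        whiskerLeft_snd_assoc, hpb.lift_snd]
  haveI : Flat β.left := MorphismProperty.pullback_fst (P := @Flat) g₁.left α.left ‹_›
  haveI : Surjective β.left := MorphismProperty.pullback_fst (P := @Surjective) g₁.left α.left ‹_›
  haveI : QuasiCompact β.left := MorphismProperty.pullback_fst (P := @QuasiCompact) g₁.left α.left ‹_›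
  refine isGeomQuot_descent hi₁ hX ha₂ (h'.2 v φ₂ u trivial hv a₂ hav hi₂) fun g iY f sq _ U => ?_
  exact inj_of_univ h' _ iY (f ≫ u.left) (sq.paste_horiz (hv.map (Over.forget S))) U

end Groth.Agent.H20GQ
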