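import Groth.Agent.H20GQ.Univ
import Mathlib.AlgebraicGeometry.Restrict

/-!
Being a universal categorical quotient is local on the target.
-/

set_option autoImplicit false
set_option linter.style.haveILetI false
set_option backward.isDefEq.respectTransparency false

universe u v

open CategoryTheory CategoryTheory.Limits MonoidalCategory CartesianMonoidalCategory MonObj AlgebraicGeometry Topology

namespace Groth.Agent.H20GQ

noncomputable section

variable {S : Scheme.{u}} {G X Y : Over S} [GrpObj G] {a : AlgGrp.Action G X} {φ : X ⟶ Y}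

/-- An open subscheme over the base. -/
abbrev resObj (X : Over S) (U : X.left.Opens) : Over S := Over.mk (U.ι ≫ X.hom)

/-- Its inclusion. -/
abbrev resIncl (X : Over S) (U : X.left.Opens) : resObj X U ⟶ X := Over.homMk U.ι rfl

instance mono_resIncl (X : Over S) (U : X.left.Opens) : Mono (resIncl X U) :=
  (Over.forget S).mono_of_mono_map (show Mono U.ι from inferInstance)

variable (φ) in
/-- The restriction of a morphism over an open of the target. -/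
abbrev resHom (V : Y.left.Opens) : resObj X (φ.left ⁻¹ᵁ V) ⟶ resObj Y V :=
  Over.homMk (φ.left ∣_ V) (by
    change (φ.left ∣_ V) ≫ V.ι ≫ Y.hom = (φ.left ⁻¹ᵁ V).ι ≫ X.hom
    rw [morphismRestrict_ι_assoc, Over.w φ])

theorem isPullback_resHom (φ : X ⟶ Y) (V : Y.left.Opens) :
    IsPullback (resIncl X (φ.left ⁻¹ᵁ V)) (resHom φ V) φ (resIncl Y V) :=
  isPullback_of_left (isPullback_morphismRestrict φ.left V).flip

/-- Gluing morphisms defined on the members of a cover of the target. -/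
theorem existsUnique_of_cover {X Y Z : Scheme.{u}} (p : X ⟶ Y) (ψ : X ⟶ Z) {J : Type v} (O : J → Y.Opens)
    (hcov : TopologicalSpace.IsOpenCover O) (hex : ∀ j, ∃ χ : (O j).toScheme ⟶ Z, (p ∣_ O j) ≫ χ = (p ⁻¹ᵁ O j).ι ≫ ψ)
    (hepi : ∀ (j : J) (U : Y.Opens), U ≤ O j → Epi (p ∣_ U)) : ∃! χ : Y ⟶ Z, p ≫ χ = ψ := by
  choose χ hχ using hex
  let c : Y.OpenCover := Scheme.openCoverOfIsOpenCover Y O hcov
  have hagree : ∀ i j, pullback.fst (O i).ι (O j).ι ≫ χ i = pullback.snd (O i).ι (O j).ι ≫ χ j := by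
    intro i j
    rw [← cancel_epi (isPullback_opens_inf (O i) (O j)).isoPullback.hom, IsPullback.isoPullback_hom_fst_assoc,
      IsPullback.isoPullback_hom_snd_assoc]
    haveI := hepi i (O i ⊓ O j) inf_le_left
    rw [← cancel_epi (p ∣_ (O i ⊓ O j))]
    have h : ∀ (W : Y.Opens) (hW : O i ⊓ O j ≤ W), (p ∣_ (O i ⊓ O j)) ≫ Y.homOfLE hW =
        X.homOfLE (p.preimage_mono hW) ≫ (p ∣_ W) := fun W hW => by
      rw [← cancel_mono W.ι, Category.assoc, Category.assoc, Scheme.homOfLE_ι, morphismRestrict_ι,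
        morphismRestrict_ι, Scheme.homOfLE_ι_assoc]
    rw [reassoc_of% h _ inf_le_left, reassoc_of% h _ inf_le_right, hχ, hχ, Scheme.homOfLE_ι_assoc,
      Scheme.homOfLE_ι_assoc]
  let χ₀ : Y ⟶ Z := c.glueMorphisms χ hagree
  have hι : ∀ j, (O j).ι ≫ χ₀ = χ j := fun j => c.ι_glueMorphisms _ _ j
  refine ⟨χ₀, ?_, fun χ' hχ' => ?_⟩
  · let cX : X.OpenCover := Scheme.openCoverOfIsOpenCover X (fun j => p ⁻¹ᵁ O j) (hcov.comap ⟨p, p.continuous⟩)
    refine cX.hom_ext _ _ fun j => ?_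
    change (p ⁻¹ᵁ O j).ι ≫ p ≫ χ₀ = (p ⁻¹ᵁ O j).ι ≫ ψ
    rw [← morphismRestrict_ι_assoc, hι, hχ]
  · refine c.hom_ext _ _ fun j => ?_
    change (O j).ι ≫ χ' = (O j).ι ≫ χ₀
    haveI := hepi j (O j) le_rfl
    rw [hι, ← cancel_epi (p ∣_ O j), hχ, morphismRestrict_ι_assoc, hχ']

/-- A categorical quotient is an epimorphism of schemes. -/
theorem epi_left_of_isCatQuot (h : GIT.IsCatQuot a φ) : Epi φ.left := by
  refine ⟨fun {Z} m₁ m₂ hm => ?_⟩
  let P : Over S := Over.mk (Limits.prod.snd : Z ⨯ S ⟶ S)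
  let t : (Y.left ⟶ Z) → (Y ⟶ P) := fun m => Over.homMk (Limits.prod.lift m Y.hom) (Limits.prod.lift_snd _ _)
  have hinv : ∀ m, GIT.IsInvariant a (φ ≫ t m) := fun m => by
    unfold GIT.IsInvariant
    rw [← Category.assoc, h.1, Category.assoc]
  obtain ⟨χ, -, huniq⟩ := h.2 P _ (hinv m₁)
  have h2 : φ ≫ t m₂ = φ ≫ t m₁ := Over.OverMorphism.ext (by
    show φ.left ≫ Limits.prod.lift m₂ Y.hom = φ.left ≫ Limits.prod.lift m₁ Y.hom
    rw [Limits.prod.comp_lift, Limits.prod.comp_lift, hm])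
  have e : t m₂ = t m₁ := (huniq _ h2).trans (huniq _ rfl).symm
  have := congrArg (fun m : Y ⟶ P => m.left ≫ Limits.prod.fst) e
  simpa [t] using this.symm

/-- Universal categorical quotients are local on the target. -/
theorem isUnivCatQuot_of_cover (hi : GIT.IsInvariant a φ) {J : Type v} (V : J → Y.left.Opens)
    (hV : TopologicalSpace.IsOpenCover V)
    (h : ∀ j, ∃ aj : AlgGrp.Action G (resObj X (φ.left ⁻¹ᵁ V j)),
      aj.act ≫ resIncl X _ = (G ◁ resIncl X _) ≫ a.act ∧ GIT.IsUnivCatQuot aj (resHom φ (V j))) :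
    GIT.IsUnivCatQuot a φ := by
  suffices key : ∀ (X' Y' : Over S) (pr : X' ⟶ X) (φ' : X' ⟶ Y') (g : Y' ⟶ Y), IsPullback pr φ' φ g →
      ∀ a' : AlgGrp.Action G X', a'.act ≫ pr = (G ◁ pr) ≫ a.act → GIT.IsInvariant a' φ' → GIT.IsCatQuot a' φ' from
    ⟨key X Y (𝟙 _) φ (𝟙 _) (IsPullback.of_id_fst) a (by simp) hi,
      fun X' Y' pr φ' g _ hpb a' ha hi' => key X' Y' pr φ' g hpb a' ha hi'⟩
  intro X' Y' pr φ' g hpb a' ha hi'
  have piece : ∀ (j : J) (U : Y'.left.Opens), U ≤ g.left ⁻¹ᵁ V j →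
      ∃ aU : AlgGrp.Action G (resObj X' (φ'.left ⁻¹ᵁ U)),
        aU.act ≫ resIncl X' _ = (G ◁ resIncl X' _) ≫ a'.act ∧ GIT.IsCatQuot aU (resHom φ' U) := by
    intro j U hU
    obtain ⟨aU, haU, hiU⟩ := exists_action hi' (isPullback_resHom φ' U)
    obtain ⟨aj, haj, hj⟩ := h j
    have hr : Set.range (resIncl Y' U ≫ g).left ⊆ Set.range (V j).ι := by
      rintro _ ⟨z, rfl⟩
      rw [Scheme.Opens.range_ι]
      exact hU z.2
    let gU : resObj Y' U ⟶ resObj Y (V j) := Over.homMk (IsOpenImmersion.lift (V j).ι _ hr) (by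
      change _ ≫ (V j).ι ≫ Y.hom = _
      rw [IsOpenImmersion.lift_fac_assoc, Over.w])
    have hgU : gU ≫ resIncl Y (V j) = resIncl Y' U ≫ g := Over.OverMorphism.ext (IsOpenImmersion.lift_fac _ _ hr)
    have hbig := (isPullback_resHom φ' U).paste_horiz hpb
    rw [← hgU] at hbig
    let prU : resObj X' (φ'.left ⁻¹ᵁ U) ⟶ resObj X (φ.left ⁻¹ᵁ V j) := (isPullback_resHom φ (V j)).lift
      (resIncl X' _ ≫ pr) (resHom φ' U ≫ gU) (by rw [hbig.w, Category.assoc])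
    have hprU : prU ≫ resIncl X _ = resIncl X' _ ≫ pr := IsPullback.lift_fst _ _ _ _
    have hsq : IsPullback prU (resHom φ' U) (resHom φ (V j)) gU :=
      IsPullback.of_right (by rw [hprU]; exact hbig) (IsPullback.lift_snd _ _ _ _) (isPullback_resHom φ (V j))
    refine ⟨aU, haU, hj.2 prU _ gU trivial hsq aU ?_ hiU⟩
    rw [← cancel_mono (resIncl X (φ.left ⁻¹ᵁ V j)), Category.assoc, hprU, Category.assoc, haj, reassoc_of% haU, ha,
      ← whiskerLeft_comp_assoc, ← whiskerLeft_comp_assoc, hprU]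
  refine ⟨hi', fun Z ψ hψ => ?_⟩
  have hcov : TopologicalSpace.IsOpenCover fun j => g.left ⁻¹ᵁ V j := hV.comap ⟨g.left, g.left.continuous⟩
  have hepi : ∀ (j : J) (U : Y'.left.Opens), U ≤ g.left ⁻¹ᵁ V j → Epi (φ'.left ∣_ U) := fun j U hU => by
    obtain ⟨aU, -, hq⟩ := piece j U hU
    exact epi_left_of_isCatQuot hq
  obtain ⟨χ, hχ, huniq⟩ := existsUnique_of_cover φ'.left ψ.left (fun j => g.left ⁻¹ᵁ V j) hcov (fun j => by
    obtain ⟨aU, haU, hq⟩ := piece j _ le_rfl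
    obtain ⟨χ, hχ, -⟩ := hq.2 Z (resIncl X' _ ≫ ψ) (by
      unfold GIT.IsInvariant
      rw [reassoc_of% haU, hψ, whiskerLeft_snd_assoc])
    exact ⟨χ.left, congrArg (fun m : resObj X' (φ'.left ⁻¹ᵁ (g.left ⁻¹ᵁ V j)) ⟶ Z => m.left) hχ⟩) hepi
  have hover : χ ≫ Z.hom = Y'.hom := by
    obtain ⟨χ₂, -, huniq₂⟩ := existsUnique_of_cover φ'.left X'.hom (fun j => g.left ⁻¹ᵁ V j) hcov
      (fun j => ⟨(g.left ⁻¹ᵁ V j).ι ≫ Y'.hom, by rw [morphismRestrict_ι_assoc, Over.w]⟩) hepi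
    exact (huniq₂ _ (show φ'.left ≫ χ ≫ Z.hom = X'.hom by rw [reassoc_of% hχ, Over.w])).trans
      (huniq₂ _ (Over.w φ')).symm
  exact ⟨Over.homMk χ hover, Over.OverMorphism.ext hχ,
    fun χ' hχ' => Over.OverMorphism.ext (huniq _ (congrArg (fun m : X' ⟶ Z => m.left) hχ'))⟩

theorem isUnivCatQuot_restrict (h : GIT.IsUnivCatQuot a φ) (V : Y.left.Opens) :
    ∃ aV : AlgGrp.Action G (resObj X (φ.left ⁻¹ᵁ V)),
      aV.act ≫ resIncl X _ = (G ◁ resIncl X _) ≫ a.act ∧ GIT.IsUnivCatQuot aV (resHom φ V) := by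
  obtain ⟨aV, ha, hi⟩ := exists_action h.1.1 (isPullback_resHom φ V)
  exact ⟨aV, ha, h.2 _ _ _ trivial (isPullback_resHom φ V) aV ha hi, afterBaseChange_trans h.2 (isPullback_resHom φ V) ha⟩

theorem isUnifCatQuot_of_isUnivCatQuot (h : GIT.IsUnivCatQuot a φ) : GIT.IsUnifCatQuot a φ :=
  ⟨h.1, fun _ _ pr φ' g _ => h.2 pr φ' g trivial⟩

theorem isUnifGeomQuot_of_isUnivGeomQuot (h : GIT.IsUnivGeomQuot a φ) : GIT.IsUnifGeomQuot a φ :=
  ⟨h.1, fun _ _ pr φ' g _ => h.2 pr φ' g trivial⟩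

/-- Universal submersions are local on the target. -/
theorem isUnivSubmersive_of_cover {X Y : Scheme.{u}} (f : X ⟶ Y) {J : Type v} (V : J → Y.Opens)
    (hV : TopologicalSpace.IsOpenCover V) (h : ∀ j, GIT.IsUnivSubmersive (f ∣_ V j)) : GIT.IsUnivSubmersive f := by
  intro X' Y' i g f' sq
  have hc : TopologicalSpace.IsOpenCover fun j => g ⁻¹ᵁ V j := hV.comap ⟨g, g.continuous⟩
  have hq : ∀ j, IsQuotientMap (f' ∣_ (g ⁻¹ᵁ V j)).base := fun j => by
    have sqV := isPullback_morphismRestrict f (V j)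
    let g' := g ∣_ V j
    let i' := sqV.lift ((f' ∣_ (g ⁻¹ᵁ V j)) ≫ g') ((f' ⁻¹ᵁ (g ⁻¹ᵁ V j)).ι ≫ i)
      (by rw [Category.assoc, morphismRestrict_ι, morphismRestrict_ι_assoc, sq.w, Category.assoc])
    have sq₁ : IsPullback (f' ∣_ (g ⁻¹ᵁ V j)) (i' ≫ (f ⁻¹ᵁ V j).ι) (g' ≫ (V j).ι) f := by
      rw [sqV.lift_snd, morphismRestrict_ι]
      exact (isPullback_morphismRestrict f' (g ⁻¹ᵁ V j)).paste_vert sq
    exact h j _ _ _ (IsPullback.of_bot sq₁ (sqV.lift_fst _ _ _).symm sqV)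
  have hsurj : Function.Surjective f' := fun y => by
    obtain ⟨j, hj⟩ := hc.exists_mem y
    obtain ⟨x, hx⟩ := (hq j).surjective ⟨y, hj⟩
    refine ⟨x.1, ?_⟩
    rw [morphismRestrict_base] at hx
    exact congrArg Subtype.val hx
  refine (Topology.isQuotientMap_iff_isClosed).2 ⟨hsurj, fun W => ⟨fun hW => hW.preimage f'.continuous, fun hW => ?_⟩⟩
  refine hc.isClosed_iff_coe_preimage.2 fun j => (hq j).isClosed_preimage.1 ?_
  rw [morphismRestrict_base]
  exact hW.preimage continuous_subtype_val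

end

end Groth.Agent.H20GQ
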