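import Groth.Prelude.Def_W4bk4git07Quot
import Groth.Agent.H20GQ.Descend
import Mathlib.AlgebraicGeometry.AffineScheme

/-!
Categorical quotients from invariant sections.
-/

set_option autoImplicit false
set_option backward.isDefEq.respectTransparency false

universe u

open CategoryTheory MonoidalCategory CartesianMonoidalCategory MonObj AlgebraicGeometry Topology

namespace Groth.Agent.H20GQ

variable {S : Scheme.{u}} {G X Y Z : Over S} [GrpObj G] {a : AlgGrp.Action G X} {φ : X ⟶ Y} {ψ : X ⟶ Z}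

theorem isInvSection_appLE (hψ : GIT.IsInvariant a ψ) (V : Z.left.Opens) (U : Y.left.Opens)
    (e : φ.left ⁻¹ᵁ U ≤ ψ.left ⁻¹ᵁ V) (s : Γ(Z.left, V)) :
    GIT.IsInvSection a φ U (ψ.left.appLE V (φ.left ⁻¹ᵁ U) e s) := by
  unfold GIT.IsInvSection
  rw [← CommRingCat.comp_apply, ← CommRingCat.comp_apply, Scheme.Hom.appLE_comp_appLE, Scheme.Hom.appLE_comp_appLE]
  congr 3
  exact hψ.left

theorem mem_range_of_invariant
    (hsec : ∀ U : Y.left.Opens,
      Function.Injective (φ.left.app U) ∧ Set.range (φ.left.app U) = {f | GIT.IsInvSection a φ U f})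
    (hψ : GIT.IsInvariant a ψ) (V : Z.left.Opens) (U : Y.left.Opens)
    (e : φ.left ⁻¹ᵁ U ≤ ψ.left ⁻¹ᵁ V) (s : Γ(Z.left, V)) :
    ψ.left.appLE V (φ.left ⁻¹ᵁ U) e s ∈ Set.range (φ.left.app U) := by
  rw [(hsec U).2]
  exact isInvSection_appLE hψ V U e s

theorem isCatQuot_of_sections (hi : GIT.IsInvariant a φ) (hq : IsQuotientMap φ.left.base)
    (hsec : ∀ U : Y.left.Opens,
      Function.Injective (φ.left.app U) ∧ Set.range (φ.left.app U) = {f | GIT.IsInvSection a φ U f})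
    (hfib : ∀ (Z : Over S) (ψ : X ⟶ Z), GIT.IsInvariant a ψ → ∀ x x', φ.left x = φ.left x' → ψ.left x = ψ.left x') :
    GIT.IsCatQuot a φ := by
  refine ⟨hi, fun Z ψ hψ => ?_⟩
  obtain ⟨χ, hχ⟩ := exists_desc hq (fun U => (hsec U).1) ψ.left (hfib Z ψ hψ) (mem_range_of_invariant hsec hψ)
  have hw : χ ≫ Z.hom = Y.hom := by
    refine hom_ext hq.surjective (fun U => (hsec U).1) ?_
    rw [← Category.assoc, hχ, Over.w ψ, Over.w φ]
  refine ⟨Over.homMk χ hw, Over.OverMorphism.ext hχ, fun χ' hχ' => Over.OverMorphism.ext ?_⟩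
  exact hom_ext hq.surjective (fun U => (hsec U).1) ((congrArg (·.left) hχ').trans hχ.symm)

/-- the fibres of `φ` are collapsed by invariant maps when orbits fill the fibres -/
theorem fib_of_orbit (hi : GIT.IsInvariant a φ) (ho : Function.Surjective (GIT.PsiY a φ hi).base)
    (hψ : GIT.IsInvariant a ψ) (x x' : X.left) (h : φ.left x = φ.left x') : ψ.left x = ψ.left x' := by
  obtain ⟨z, h1, h2⟩ := Scheme.Pullback.exists_preimage_pullback x x' h
  obtain ⟨w, rfl⟩ := ho z
  rw [← h1, ← h2]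
  change (GIT.PsiY a φ hi ≫ Limits.pullback.fst _ _ ≫ ψ.left) w = (GIT.PsiY a φ hi ≫ Limits.pullback.snd _ _ ≫ ψ.left) w
  rw [GIT.PsiY, Limits.pullback.lift_fst_assoc, Limits.pullback.lift_snd_assoc, hψ.left]

theorem isQuotientMap_of_univSubmersive {A B : Scheme.{u}} {f : A ⟶ B} (h : GIT.IsUnivSubmersive f) :
    IsQuotientMap f.base :=
  MorphismProperty.universally_le _ _ h

theorem isCatQuot_of_isGeomQuot (h : GIT.IsGeomQuot a φ) : GIT.IsCatQuot a φ :=
  isCatQuot_of_sections h.inv (isQuotientMap_of_univSubmersive h.subm) h.sections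
    fun _ _ hψ x x' hx => fib_of_orbit h.inv h.orbit hψ x x' hx

/-- the fibres of `φ` are collapsed when each lies over an affine open of the target -/
theorem fib_of_affine (hsec : ∀ U : Y.left.Opens,
      Function.Injective (φ.left.app U) ∧ Set.range (φ.left.app U) = {f | GIT.IsInvSection a φ U f})
    (hψ : GIT.IsInvariant a ψ)
    (hloc : ∀ y : Y.left, ∃ (U : Y.left.Opens) (V : Z.left.Opens), y ∈ U ∧ IsAffineOpen V ∧ φ.left ⁻¹ᵁ U ≤ ψ.left ⁻¹ᵁ V)
    (x x' : X.left) (h : φ.left x = φ.left x') : ψ.left x = ψ.left x' := by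
  obtain ⟨U, V, hxU, hV, e⟩ := hloc (φ.left x)
  choose k hk using fun s : Γ(Z.left, V) => mem_range_of_invariant hsec hψ V U e s
  have hinj := (hsec U).1
  let kk : Γ(Z.left, V) ⟶ Γ(Y.left, U) := CommRingCat.ofHom
    { toFun := k
      map_one' := hinj (by rw [hk, map_one, map_one])
      map_mul' := fun s t => hinj (by rw [hk, map_mul, map_mul, hk, hk])
      map_zero' := hinj (by rw [hk, map_zero, map_zero])
      map_add' := fun s t => hinj (by rw [hk, map_add, map_add, hk, hk]) }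
  have hkk : kk ≫ φ.left.app U = ψ.left.appLE V (φ.left ⁻¹ᵁ U) e := by ext s; exact hk s
  let g : (U : Scheme) ⟶ Z.left := U.toSpecΓ ≫ Spec.map kk ≫ hV.fromSpec
  have key : φ.left ∣_ U ≫ g = (φ.left ⁻¹ᵁ U).ι ≫ ψ.left := by
    rw [Scheme.Hom.resLE_comp_ι ψ.left e |>.symm, ← IsAffineOpen.toSpecΓ_fromSpec hV,
      ← Category.assoc (ψ.left.resLE V _ e), ← Scheme.Opens.toSpecΓ_SpecMap_appLE, ← hkk, Spec.map_comp]
    simp only [g, Category.assoc]
    rw [← Scheme.Hom.resLE_eq_morphismRestrict, ← Category.assoc, ← Category.assoc (_ : _ ⟶ _) (Spec.map (φ.left.app U)),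
      φ.left.app_eq_appLE, Scheme.Opens.toSpecΓ_SpecMap_appLE]
  let t : (φ.left ⁻¹ᵁ U).toScheme := ⟨x, hxU⟩
  let t' : (φ.left ⁻¹ᵁ U).toScheme := ⟨x', by show φ.left x' ∈ U; rw [← h]; exact hxU⟩
  have e1 : (φ.left ∣_ U) t = (φ.left ∣_ U) t' := by
    refine Subtype.ext ?_
    rw [morphismRestrict_base_coe, morphismRestrict_base_coe]
    exact h
  have h1 := congrArg (fun m : (φ.left ⁻¹ᵁ U).toScheme ⟶ Z.left => m t) key
  have h2 := congrArg (fun m : (φ.left ⁻¹ᵁ U).toScheme ⟶ Z.left => m t') key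
  simp only [Scheme.Hom.comp_apply, e1] at h1 h2
  exact h1.symm.trans h2

end Groth.Agent.H20GQ
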