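import Groth.Agent.H20GQ.Local
import Groth.Agent.H20GQ.Orbit

/-!
Restriction of an action to an invariant open.
-/

set_option autoImplicit false
set_option backward.isDefEq.respectTransparency false

universe u

open CategoryTheory CategoryTheory.Limits MonoidalCategory CartesianMonoidalCategory MonObj AlgebraicGeometry

namespace Groth.Agent.H20GQ

noncomputable section

variable {S : Scheme.{u}} {G X : Over S} [GrpObj G]

theorem exists_action_open (a : AlgGrp.Action G X) (W : X.left.Opens)
    (hW : a.act.left ⁻¹ᵁ W = (snd G X).left ⁻¹ᵁ W) :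
    ∃ aW : AlgGrp.Action G (resObj X W), aW.act ≫ resIncl X W = (G ◁ resIncl X W) ≫ a.act := by
  let i := resIncl X W
  have hr : Set.range ((G ◁ i) ≫ a.act).left ⊆ Set.range W.ι := by
    rintro _ ⟨z, rfl⟩
    rw [Scheme.Opens.range_ι]
    show (G ◁ i).left z ∈ a.act.left ⁻¹ᵁ W
    rw [hW]
    show (snd G X).left ((G ◁ i).left z) ∈ W
    rw [← Scheme.Hom.comp_apply, ← Over.comp_left, whiskerLeft_snd, Over.comp_left, Scheme.Hom.comp_apply]
    exact ((snd G _).left z).2
  let act : G ⊗ resObj X W ⟶ resObj X W :=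
    Over.homMk (IsOpenImmersion.lift W.ι _ hr) (by
      show _ ≫ W.ι ≫ X.hom = _
      rw [IsOpenImmersion.lift_fac_assoc, Over.w])
  have hact : act ≫ i = (G ◁ i) ≫ a.act := Over.OverMorphism.ext (IsOpenImmersion.lift_fac _ _ hr)
  refine ⟨⟨act, ?_, ?_⟩, hact⟩
  · rw [← cancel_mono i, Category.assoc, hact, ← whisker_exchange_assoc, a.one_act]
    simp
  · rw [← cancel_mono i]
    simp only [Category.assoc, hact]
    rw [← whisker_exchange_assoc, a.mul_act, ← whiskerLeft_comp_assoc, hact]
    simp

end

end Groth.Agent.H20GQ
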