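import Groth.Agent.H20GQ.Fppf
import Groth.Agent.H18Descent.Basic

/-!
Torsors are geometric quotients.
-/

set_option autoImplicit false
set_option backward.isDefEq.respectTransparency false

universe u

open CategoryTheory MonoidalCategory CartesianMonoidalCategory MonObj AlgebraicGeometry Opposite Topology

namespace Groth.Agent.H20GQ

variable {S : Scheme.{u}} {G X Y : Over S} [GrpObj G] {a : AlgGrp.Action G X} {φ : X ⟶ Y}
  {K : Precoverage Scheme.{u}}

theorem isLocQuot_of_torsor (hcart : IsPullback a.act (snd G X) φ φ) (R : Presieve Y.left) (hR : R ∈ K Y.left)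
    (hsec : ∀ ⦃W : Scheme.{u}⦄ (f : W ⟶ Y.left), R f → ∃ s : W ⟶ X.left, s ≫ φ.left = f) :
    IsLocQuot a φ K := by
  refine ⟨hcart.w, fun T y => ?_, fun T x x' h => ?_⟩
  · have h1 : lifts φ (𝟙 Y) ∈ QuotSh.J K S Y := by
      rw [GrothendieckTopology.mem_over_iff]
      refine GrothendieckTopology.superset_covering _ ?_ (Precoverage.generate_mem_toGrothendieck hR)
      rw [Sieve.generate_le_iff]
      intro W f hf
      obtain ⟨s, hs⟩ := hsec f hf
      rw [Sieve.overEquiv_iff]
      refine ⟨Over.homMk s (by change s ≫ X.hom = f ≫ Y.hom; rw [← Over.w φ, ← hs, Category.assoc]), ?_⟩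
      rw [Category.comp_id]
      exact Over.OverMorphism.ext hs
    refine (QuotSh.J K S).superset_covering ?_ ((QuotSh.J K S).pullback_stable y h1)
    rintro V i ⟨x, hx⟩
    exact ⟨x, by rw [hx, Category.comp_id]⟩
  · refine (QuotSh.J K S).superset_covering ?_ ((QuotSh.J K S).top_mem T)
    intro V i _
    refine ⟨hcart.lift (i ≫ x) (i ≫ x') (by rw [Category.assoc, Category.assoc, h]) ≫ fst G X, ?_⟩
    have e : lift (hcart.lift (i ≫ x) (i ≫ x') (by rw [Category.assoc, Category.assoc, h]) ≫ fst G X) (i ≫ x') =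
        hcart.lift (i ≫ x) (i ≫ x') (by rw [Category.assoc, Category.assoc, h]) := by
      apply CartesianMonoidalCategory.hom_ext <;> simp
    rw [e, hcart.lift_fst]

theorem isGeomQuot_of_fppf_cover (hcart : IsPullback a.act (snd G X) φ φ) [Flat φ.left] [Surjective φ.left]
    [LocallyOfFinitePresentation φ.left] : GIT.IsGeomQuot a φ :=
  (isLocQuot_of_torsor hcart (Presieve.singleton φ.left) φ.left.singleton_mem_fppfPrecoverage
    (by rintro _ _ ⟨⟩; exact ⟨𝟙 _, Category.id_comp _⟩)).isGeomQuot goodTop_fppf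

theorem isPullback_of_isIso_PsiY (hi : GIT.IsInvariant a φ) (h : IsIso (GIT.PsiY a φ hi)) :
    IsPullback a.act (snd G X) φ φ := by
  refine isPullback_of_left (IsPullback.of_iso_pullback ⟨hi.left⟩ (asIso (GIT.PsiY a φ hi)) ?_ ?_)
  · exact Limits.pullback.lift_fst _ _ _
  · exact Limits.pullback.lift_snd _ _ _

theorem isClosedImmersion_psi (hi : GIT.IsInvariant a φ) (h : IsIso (GIT.PsiY a φ hi)) [IsSeparated Y.hom] :
    IsClosedImmersion (GIT.psi a (𝟙 X)).left := by
  haveI := h
  have e : (GIT.psi a (𝟙 X)).left = GIT.PsiY a φ hi ≫ Limits.pullback.mapDesc φ.left φ.left Y.hom ≫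
      (Limits.pullback.congrHom (Over.w φ) (Over.w φ)).hom := by
    refine Limits.pullback.hom_ext ?_ ?_
    · simp [GIT.psi, GIT.PsiY]
    · simp [GIT.psi, GIT.PsiY]
  rw [e]
  infer_instance

theorem isAffineHom_of_torsor (hcart : IsPullback a.act (snd G X) φ φ) [IsAffineHom G.hom]
    (R : Presieve Y.left) (hR : R ∈ Scheme.fpqcPrecoverage Y.left)
    (hsec : ∀ ⦃W : Scheme.{u}⦄ (f : W ⟶ Y.left), R f → ∃ s : W ⟶ X.left, s ≫ φ.left = f) :
    IsAffineHom φ.left := by
  obtain ⟨ι0, W, f, rfl⟩ := R.exists_eq_ofArrows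
  haveI : MorphismProperty.DescendsAlong @IsAffineHom
      (@Surjective ⊓ @Flat ⊓ @QuasiCompact : MorphismProperty Scheme.{u}) := H18Descent.isAffineHom_descends_fpqc
  refine H13Desc.of_fpqc_target @IsAffineHom hR φ.left fun j => ?_
  obtain ⟨s, hs⟩ := hsec (f j) (Presieve.ofArrows.mk j)
  have hq : IsPullback a.act.left (snd G X).left φ.left φ.left := hcart.map (Over.forget S)
  have hbig := (IsPullback.of_hasPullback (snd G X).left s).paste_horiz hq
  rw [hs] at hbig
  rw [← hbig.isoPullback_inv_snd]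
  haveI : IsAffineHom (snd G X).left := MorphismProperty.pullback_snd (P := @IsAffineHom) _ _ ‹IsAffineHom G.hom›
  haveI : IsAffineHom (Limits.pullback.snd (snd G X).left s) :=
    MorphismProperty.pullback_snd (P := @IsAffineHom) _ _ ‹_›
  exact (MorphismProperty.cancel_left_of_respectsIso @IsAffineHom _ _).2 ‹_›

end Groth.Agent.H20GQ
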