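import Groth.Agent.H20GQ.Univ

/-!
Transfer of quotient properties to any other categorical quotient.
-/

set_option autoImplicit false
set_option backward.isDefEq.respectTransparency false

universe u

open CategoryTheory MonoidalCategory CartesianMonoidalCategory MonObj AlgebraicGeometry Topology

namespace Groth.Agent.H20GQ

variable {S : Scheme.{u}} {G X Y Y₀ : Over S} [GrpObj G] {a : AlgGrp.Action G X} {φ : X ⟶ Y} {φ₀ : X ⟶ Y₀}

/-- Categorical quotients are unique up to a unique isomorphism. -/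
theorem exists_iso_of_isCatQuot (h : GIT.IsCatQuot a φ) (h₀ : GIT.IsCatQuot a φ₀) :
    ∃ e : Y ≅ Y₀, φ ≫ e.hom = φ₀ := by
  obtain ⟨χ, hχ, -⟩ := h.2 _ _ h₀.1
  obtain ⟨χ', hχ', -⟩ := h₀.2 _ _ h.1
  refine ⟨⟨χ, χ', ?_, ?_⟩, hχ⟩
  · obtain ⟨m, -, hu⟩ := h.2 _ φ h.1
    exact (hu _ (show φ ≫ χ ≫ χ' = φ by rw [reassoc_of% hχ, hχ'])).trans (hu _ (Category.comp_id φ)).symm
  · obtain ⟨m, -, hu⟩ := h₀.2 _ _ h₀.1
    exact (hu _ (show φ₀ ≫ χ' ≫ χ = φ₀ by rw [reassoc_of% hχ', hχ])).trans (hu _ (Category.comp_id _)).symm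

theorem isUnivCatQuot_of_iso (e : Y ≅ Y₀) (he : φ ≫ e.hom = φ₀) (h : GIT.IsUnivCatQuot a φ₀) (hq : GIT.IsCatQuot a φ) :
    GIT.IsUnivCatQuot a φ := by
  refine ⟨hq, fun X' Y' pr φ' g hg hpb a' ha hi => h.2 pr φ' (g ≫ e.hom) hg ?_ a' ha hi⟩
  refine hpb.of_iso (Iso.refl _) (Iso.refl _) (Iso.refl _) e ?_ ?_ ?_ ?_ <;> simp [he]

theorem isUnivSubmersive_of_iso (e : Y ≅ Y₀) (he : φ ≫ e.hom = φ₀) (h : GIT.IsUnivSubmersive φ₀.left) :
    GIT.IsUnivSubmersive φ.left := by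
  haveI : IsIso e.hom.left := ((Over.forget _).mapIso e).isIso_hom
  refine (MorphismProperty.cancel_right_of_respectsIso
    (MorphismProperty.universally (topologically @IsQuotientMap)) φ.left e.hom.left).1 ?_
  rw [← Over.comp_left, he]
  exact h

end Groth.Agent.H20GQ
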